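/-!
# Arithmetic model of a Sylow 2-subgroup of M24 modulo its centre

Element `n < 512` is the product of the element `n % 8` of a dihedral group of order 8 and the
vector `n / 8` of `𝔽₂^6`, written in bits.
-/

set_option autoImplicit false

namespace CfsgLib.MModel24

/-- Packed table of the action of the dihedral group. -/
def actTab : Nat := 831496106697924598996111314383260718318650841762121156661276938869807256208620826444843175068818742860717505105200836693717915840160170499162965029943269895590054767495914234209416992441348678518811637933792347014409455716981083477380757227713839286163505926648473451929484544553019137927675828857044061838322848384656133372651729389362674814597531768293993565466772621468125404617733875144086471700376892914538894114502615837231876373352250466317699787680756637665152812915853414960377252310602463668377312200391092695597519098501495165464617621093044033152717737566131577687259943815262003929835306374861515831460938229985249364296220164103899467270618954600338582918647253857067149285474098580620004191766683501111959777329294350913059129696817413080443431435413724452858130616263295686907226950435040707115938883184403557465801049158557143417986574025019719357872623516669972230743251948791320011550176932655679738224704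

/-- Packed table of the product in the dihedral group. -/
def mulTab : Nat := 3314916425584696386196819255641242187692522678638421395080

/-- Packed table of inverses. -/
def invTab : Nat := 9940636820068076348107471431115104872894232345076128696700244948552239251678680272237984115634707404885437153139275284140956911926547301482754019651262350825401133116319166007097902073457144277648894834367977110090639681447241859783570507187394990231512998713316628688738771468163733063067413691441624737469292447480514743157644392076925818373971190584391040182553269313994171549754064681429158173550819919868916514691815389392218038663650436636104641161053615832096793108651081768710659065808875174536001999739857824177673601078098650596748871277095733665499967169016057515121845546154877654856840040857416982299225135778757156744559720949024305609810268269869238058228347434005987071320770977993472857003122456008878912197495364258144043790209159405646204661636392350432270340445216495282399237790110832874153600715314791726271709111772004846897252431648052694453961818345473389102032068625690350732371496837804742678468507037720244810605942756968315357409070821785142179813471763237582915795569371058091446899498263487737435703482517075651196083089104777290257474844032433933746097968832105663973989124291499675595324673029906211864183597845832831019606724404126739779089660946152482738968970295261756940772367996471134686211103372617782686929596742707179414697347478011623184235743958519835026766589139682806365448333448394765052682709708043751043934374532288961712921864638743183872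

/-- Product in the dihedral group. -/
def mulD (x y : Nat) : Nat :=
  Nat.land (Nat.shiftRight mulTab (Nat.mul (nat_lit 3) (Nat.add (Nat.mul (nat_lit 8) x) y))) (nat_lit 7)

/-- Action of the dihedral group on vectors (on the right). -/
def act (e v : Nat) : Nat :=
  Nat.land (Nat.shiftRight actTab (Nat.mul (nat_lit 6) (Nat.add (Nat.mul (nat_lit 64) e) v))) (nat_lit 63)

/-- The product. -/
def mul (a b : Nat) : Nat :=
  Nat.add (mulD (Nat.mod a (nat_lit 8)) (Nat.mod b (nat_lit 8))) (Nat.mul (nat_lit 8)
    (Nat.xor (act (Nat.mod b (nat_lit 8)) (Nat.div a (nat_lit 8))) (Nat.div b (nat_lit 8))))

/-- The inverse. -/
def inv (a : Nat) : Nat := Nat.land (Nat.shiftRight invTab (Nat.mul (nat_lit 9) a)) (nat_lit 511)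

/-- Conjugation. -/
def conj (g h : Nat) : Nat := mul (mul g h) (inv g)

/-- Bit test. -/
def tb (m x : Nat) : Bool := Nat.beq (Nat.land (nat_lit 1) (Nat.shiftRight m x)) (nat_lit 1)

/-- Bit mask of a list. -/
def mask (L : List Nat) : Nat := L.foldl (fun m x => m ||| (1 <<< x)) 0

/-- The entries at the positions that are powers of two. -/
def picks (L : List Nat) : List Nat := [1, 2, 4, 8, 16, 32, 64, 128, 256].filterMap fun i => L[i]?

/-- All products of a list of commuting involutions. -/
def span : List Nat → List Nat
  | [] => [0]
  | a :: R => let K := span R; K ++ K.map (mul a)

/-- A list with few elements that determines the normalizer of `L`. -/
def testList (L : List Nat) : List Nat :=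
  match Nat.beq (mask (span (picks L))) (mask L) with
  | true => picks L
  | false => L

/-- Elements normalizing the set `L`. -/
def normList (L : List Nat) : List Nat :=
  let m := mask L
  let K := testList L
  (List.range 512).filter fun g => K.all fun x => tb m (conj g x)

/-- Involutions (and the identity) centralizing `L`. -/
def candList (L : List Nat) : List Nat :=
  let K := testList L
  (List.range 512).filter fun a => Nat.beq (mul a a) (nat_lit 0) &&
    K.all fun x => Nat.beq (mul a x) (mul x a)

/-- Admissible one step extensions. -/
def extend (G cand : List Nat) (L : List Nat) : List (List Nat) :=
  let m := mask L
  (cand.filter fun a => !tb m a && (L.all fun x => Nat.beq (mul a x) (mul x a)) &&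
    G.all fun g => tb m (mul (conj g a) a)).map fun a => L ++ L.map (mul a)

/-- Remove repetitions of keys. -/
def dedupK : List (Nat × List Nat) → List (Nat × List Nat)
  | [] => []
  | p :: R =>
    let R' := dedupK R
    match R'.any (fun q => Nat.beq q.1 p.1) with
    | true => R'
    | false => p :: R'

/-- A list with its mask, computed once. -/
def keyed (L : List Nat) : Nat × List Nat :=
  match mask L with
  | 0 => (0, L)
  | n + 1 => (n + 1, L)

/-- Remove repetitions. -/
def dedup (R : List (List Nat)) : List (List Nat) := (dedupK (R.map keyed)).map Prod.snd

/-- All levels of extensions. -/
def levels (G cand : List Nat) : Nat → List (List Nat) → List (List Nat)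
  | 0, lvl => lvl
  | n + 1, lvl => lvl ++ levels G cand n (dedup (lvl.flatMap (extend G cand)))

/-- The index test. -/
def admissible (G L : List Nat) : Bool :=
  Nat.ble G.length (8 * L.length) &&
    !(G.length == 8 * L.length && G.all fun g => tb (mask L) (mul g g))

/-- The groups that may be intersections with a conjugate of the abelian group. -/
def options (L : List Nat) : List (List Nat) :=
  let G := normList L
  (levels (picks G) (candList L) 9 [L]).filter (admissible G)

/-- `L` cannot be conjugate into the abelian group. -/
def dead : Nat → List Nat → Bool
  | 0, _ => false
  | n + 1, L => (options L).all (dead n)

end CfsgLib.MModel24
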