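import Cfsg.Agent.MModel24.AutoLoc
import Cfsg.Agent.GW.DihedralType
import Cfsg.Agent.Inv54.Core

/-!
# Consequences of the local hypotheses on the automizer
-/

set_option autoImplicit false
set_option linter.style.haveILetI false
set_option linter.unusedSectionVars false

namespace CfsgLib.MModel24

open Subgroup

variable {V : Type*} [Group V] [Finite V] {X : Subgroup (MulAut V)} (h : Loc X)
include h

theorem Loc.card_sylow (Q : Sylow 2 X) : Nat.card (Q : Subgroup X) = 8 := by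
  haveI : Fact (Nat.Prime 2) := ⟨Nat.prime_two⟩
  obtain ⟨P, ⟨e⟩⟩ := h.sylow
  rw [Nat.card_congr (Sylow.equiv Q P).toEquiv, Nat.card_congr e.toEquiv, DihedralGroup.nat_card]

theorem Loc.eight_dvd : 8 ∣ Nat.card X := by
  obtain ⟨P, -⟩ := h.sylow
  exact h.card_sylow P ▸ Subgroup.card_subgroup_dvd_card _

theorem Loc.not_sixteen_dvd : ¬ 16 ∣ Nat.card X := by
  haveI : Fact (Nat.Prime 2) := ⟨Nat.prime_two⟩
  intro h16
  obtain ⟨K, hK⟩ := Sylow.exists_subgroup_card_pow_prime (G := X) 2 (n := 4) h16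
  obtain ⟨Q, hQ⟩ := (IsPGroup.of_card (p := 2) (n := 4) hK).exists_le_sylow
  have := Subgroup.card_le_of_le hQ
  rw [hK, h.card_sylow Q] at this
  norm_num at this

theorem Loc.dihType : GW.DihType X := by
  obtain ⟨P, ⟨e⟩⟩ := h.sylow
  exact GW.dihType_of_sylow P e

/-- An element of odd order commuting with an involution `t`, inverted by a 2-element commuting
with `t`, is trivial. -/
theorem Loc.key_trivial {t f x : X} (ht1 : t ≠ 1) (ht : t * t = 1) (hc : t * f = f * t) {j : ℕ}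
    (hf : f ^ 2 ^ j = 1) {n : ℕ} (hn : Odd n) (hx : x ^ n = 1) (hxt : x * t = t * x)
    (hfx : f * x * f⁻¹ = x⁻¹) : x = 1 := by
  refine Subtype.ext ((h.key t t.2 f f.2 (fun e => ht1 (Subtype.ext e)) (congrArg Subtype.val ht :)
    (congrArg Subtype.val hc :) ⟨j, (SubgroupClass.coe_pow f _).symm.trans (congrArg Subtype.val hf)⟩).trivial
    h.comm h.sq hn ((SubgroupClass.coe_pow x _).symm.trans (congrArg Subtype.val hx))
    (congrArg Subtype.val hxt :) (congrArg Subtype.val hfx :))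

theorem Loc.four' {t u : X} (ht1 : t ≠ 1) (hu1 : u ≠ 1) (htu : t ≠ u) (ht : t * t = 1) (hu : u * u = 1)
    (hc : t * u = u * t) : FourData (t : MulAut V) u :=
  h.four t t.2 u u.2 (fun e => ht1 (Subtype.ext e)) (fun e => hu1 (Subtype.ext e))
    (fun e => htu (Subtype.ext e)) (congrArg Subtype.val ht :) (congrArg Subtype.val hu :) (congrArg Subtype.val hc :)

/-- An element of odd order centralizing a four group is trivial. -/
theorem Loc.four_trivial {t u x : X} (ht1 : t ≠ 1) (hu1 : u ≠ 1) (htu : t ≠ u) (ht : t * t = 1)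
    (hu : u * u = 1) (hc : t * u = u * t) {n : ℕ} (hn : Odd n) (hx : x ^ n = 1) (hxt : x * t = t * x)
    (hxu : x * u = u * x) : x = 1 :=
  Subtype.ext ((h.four' ht1 hu1 htu ht hu hc).trivial h.comm h.sq hn
    ((SubgroupClass.coe_pow x _).symm.trans (congrArg Subtype.val hx))
    (congrArg Subtype.val hxt :) (congrArg Subtype.val hxu :))

/-- An element `x` with `x³ = 1` normalizing a four group and moving `t` fixes four vectors. -/
theorem Loc.card_fix_three {t x : X} (hx : x ^ 3 = 1) (ht : t * t = 1) (hne : x * t ≠ t * x)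
    (hc : t * (x * t * x⁻¹) = x * t * x⁻¹ * t)
    (hnorm : x * (x * t * x⁻¹) * x⁻¹ = t * (x * t * x⁻¹)) :
    Nat.card {a : V // (x : MulAut V) a = a} = 4 := by
  set u := x * t * x⁻¹ with hu
  have ht1 : t ≠ 1 := fun e => hne (by rw [e, mul_one, one_mul])
  have hu2 : u * u = 1 := by rw [hu, conj_mul, ht, mul_one, mul_inv_cancel]
  have hu1 : u ≠ 1 := fun e => ht1 (conj_eq_one_iff.1 e)
  have htu : t ≠ u := fun e => hne (mul_inv_eq_iff_eq_mul.1 e.symm)
  refine (h.four' ht1 hu1 htu ht hu2 hc).card_fix h.comm h.sq h.card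
    ((SubgroupClass.coe_pow x _).symm.trans (congrArg Subtype.val hx)) ?_ ?_
  · exact congrArg Subtype.val (show x * t = u * x by rw [hu, inv_mul_cancel_right])
  · exact congrArg Subtype.val (show x * u = t * u * x by rw [← hnorm, inv_mul_cancel_right])

theorem Loc.exists_four : ∃ t u : X, t ≠ 1 ∧ u ≠ 1 ∧ t ≠ u ∧ t * t = 1 ∧ u * u = 1 ∧ t * u = u * t := by
  obtain ⟨P, ⟨e⟩⟩ := h.sylow
  have hi : Function.Injective (fun x => ((e.symm x : (P : Subgroup X)) : X)) :=
    Subtype.val_injective.comp e.symm.injective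
  have hm : ∀ x y, ((e.symm x : (P : Subgroup X)) : X) * (e.symm y : (P : Subgroup X)) =
      (e.symm (x * y) : (P : Subgroup X)) := fun x y => by rw [map_mul, Subgroup.coe_mul]
  have h0 : ((e.symm 1 : (P : Subgroup X)) : X) = 1 := by rw [map_one, Subgroup.coe_one]
  refine ⟨(e.symm (.r 2) : (P : Subgroup X)), (e.symm (.sr 0) : (P : Subgroup X)), ?_, ?_, ?_, ?_, ?_, ?_⟩
  · exact fun he => absurd (hi (he.trans h0.symm)) (by decide)
  · exact fun he => absurd (hi (he.trans h0.symm)) (by decide)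
  · exact fun he => absurd (hi he) (by decide)
  · rw [hm, show (DihedralGroup.r 2 : DihedralGroup 4) * .r 2 = 1 by decide, h0]
  · rw [hm, show (DihedralGroup.sr 0 : DihedralGroup 4) * .sr 0 = 1 by decide, h0]
  · rw [hm, hm, show (DihedralGroup.r 2 : DihedralGroup 4) * .sr 0 = .sr 0 * .r 2 by decide]

/-- The automizer has no nontrivial normal subgroup of odd order. -/
theorem Loc.oddCore_eq_bot : Cfsg.oddCore X = ⊥ := by
  set R := Cfsg.oddCore X
  have hodd : Odd (Nat.card R) := CfsgLib.Inv54.odd_card_oddCore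
  haveI hRn : R.Normal := inferInstance
  have hpow : ∀ r ∈ R, r ^ Nat.card R = 1 := fun r hr =>
    (SubgroupClass.coe_pow (⟨r, hr⟩ : R) _).symm.trans (congrArg Subtype.val pow_card_eq_one')
  have hfix : ∀ w u : X, w ≠ 1 → u ≠ 1 → w ≠ u → w * w = 1 → u * u = 1 → w * u = u * w →
      ∀ r ∈ R, r * w = w * r → r = 1 := by
    intro w u w1 u1 wu ww uu hc r hr hrw
    have hur : u * r * u⁻¹ ∈ R := hRn.conj_mem r hr u
    have hui : u⁻¹ = u := inv_eq_of_mul_eq_one_right uu
    have hsR : r⁻¹ * (u * r * u⁻¹) ∈ R := mul_mem (inv_mem hr) hur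
    have hsw : r⁻¹ * (u * r * u⁻¹) * w = w * (r⁻¹ * (u * r * u⁻¹)) := by
      have a1 : Commute r w := hrw
      have a2 : Commute u w := hc.symm
      exact (a1.inv_left.mul_left ((a2.mul_left a1).mul_left a2.inv_left)).eq
    have hs : r⁻¹ * (u * r * u⁻¹) = 1 := h.key_trivial w1 ww hc (j := 1)
      (by rw [pow_one, pow_two, uu]) hodd (hpow _ hsR) hsw (by
        rw [mul_inv_rev, inv_inv]
        rw [show u * (r⁻¹ * (u * r * u⁻¹)) * u⁻¹ = u * r⁻¹ * u * r * (u⁻¹ * u⁻¹) by group, hui, uu,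
          mul_one, mul_inv_rev, mul_inv_rev, hui]
        group)
    exact h.four_trivial w1 u1 wu ww uu hc hodd (hpow r hr) hrw
      (mul_inv_eq_iff_eq_mul.1 (inv_mul_eq_one.1 hs).symm).symm
  have hinv : ∀ w u : X, w ≠ 1 → u ≠ 1 → w ≠ u → w * w = 1 → u * u = 1 → w * u = u * w →
      ∀ r ∈ R, w * r * w⁻¹ = r⁻¹ := by
    intro w u w1 u1 wu ww uu hc r hr
    let g : R → R := fun s => ⟨(s : X)⁻¹ * (w * s * w⁻¹), mul_mem (inv_mem s.2) (hRn.conj_mem _ s.2 w)⟩
    have hg : Function.Injective g := fun a b hab => by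
      have e : (a : X)⁻¹ * (w * a * w⁻¹) = (b : X)⁻¹ * (w * b * w⁻¹) := congrArg Subtype.val hab
      have hm := hfix w u w1 u1 wu ww uu hc ((b : X) * (a : X)⁻¹) (mul_mem b.2 (inv_mem a.2)) (by
        have : w * ((b : X) * (a : X)⁻¹) * w⁻¹ = (b : X) * (a : X)⁻¹ := by
          calc w * ((b : X) * (a : X)⁻¹) * w⁻¹ = (w * b * w⁻¹) * (w * a * w⁻¹)⁻¹ := by group
            _ = b * ((b : X)⁻¹ * (w * b * w⁻¹)) * (w * a * w⁻¹)⁻¹ := by group
            _ = b * ((a : X)⁻¹ * (w * a * w⁻¹)) * (w * a * w⁻¹)⁻¹ := by rw [e]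
            _ = _ := by group
        exact (mul_inv_eq_iff_eq_mul.1 this).symm)
      exact Subtype.ext (mul_inv_eq_one.1 hm).symm
    obtain ⟨s, hs⟩ := (Finite.injective_iff_surjective.1 hg) ⟨r, hr⟩
    have hs' : (s : X)⁻¹ * (w * s * w⁻¹) = r := congrArg Subtype.val hs
    have hwi : w⁻¹ = w := inv_eq_of_mul_eq_one_right ww
    rw [← hs', mul_inv_rev, inv_inv,
      show w * ((s : X)⁻¹ * (w * s * w⁻¹)) * w⁻¹ = w * (s : X)⁻¹ * w * s * (w⁻¹ * w⁻¹) by group,
      hwi, ww, mul_one, mul_inv_rev, mul_inv_rev, hwi]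
    group
  obtain ⟨t, u, t1, u1, tu, tt, uu, hc⟩ := h.exists_four
  have htu2 : t * u * (t * u) = 1 := by
    rw [mul_assoc, ← mul_assoc u, ← hc, mul_assoc t u, uu, mul_one, tt]
  rw [eq_bot_iff]
  intro r hr
  have e1 := hinv t u t1 u1 tu tt uu hc r hr
  have e2 := hinv u t u1 t1 tu.symm uu tt hc.symm r hr
  have e3 := hinv (t * u) t (fun e => tu ((eq_inv_of_mul_eq_one_left e).trans (inv_eq_of_mul_eq_one_right uu)))
    t1 (fun e => u1 (mul_eq_left.1 e)) htu2 tt (by rw [mul_assoc, ← hc]) r hr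
  have e4 : r = r⁻¹ := by
    rw [← e3, show t * u * r * (t * u)⁻¹ = t * (u * r * u⁻¹) * t⁻¹ by group, e2,
      show t * r⁻¹ * t⁻¹ = (t * r * t⁻¹)⁻¹ by group, e1, inv_inv]
  have h2 : r ^ 2 = 1 := by rw [pow_two]; nth_rewrite 2 [e4]; exact mul_inv_cancel r
  have h1 : r ^ Nat.gcd 2 (Nat.card R) = 1 := pow_gcd_eq_one.2 ⟨h2, hpow r hr⟩
  rw [Nat.coprime_two_left.2 hodd, pow_one] at h1
  exact Subgroup.mem_bot.2 h1

end CfsgLib.MModel24
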