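import Cfsg.Agent.MModel24.AutoOrder

/-!
# The automizer has order 8, 24 or 168
-/

set_option autoImplicit false
set_option linter.style.haveILetI false
set_option linter.unusedSectionVars false

namespace CfsgLib.MModel24

open Subgroup

/-- A vector fixed by a four group and an element of order three cycling it is a common commutator. -/
theorem FourData.inT_of_fixed {V : Type*} [Group V] {t u x : MulAut V} (d : FourData t u)
    (hxt : x * t = u * x) (hxu : x * u = t * u * x) {v : V} (h1 : t v = v) (h2 : u v = v) (h3 : x v = v) :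
    v = 1 ∨ InT t v ∧ InT u v ∧ InT (t * u) v := by
  obtain ⟨i, _, a1, a2, a3, -, -, hP⟩ := d.hI
  rcases hP v h1 h2 with e | e | ⟨w, hw, hwv, -⟩
  · exact .inl e
  · exact .inr (e ▸ ⟨a1, a2, a3⟩)
  have e1 : ∀ a, x (t a) = u (x a) := fun a => DFunLike.congr_fun hxt a
  have e2 : ∀ a, x (u a) = t (u (x a)) := fun a => DFunLike.congr_fun hxu a
  have e3 : ∀ a, x (t (u a)) = t (x a) := fun a => by rw [e1, e2, ← d.htu, d.hu]
  have k1 : InT t v → InT u v := by
    rintro ⟨a, ha⟩
    refine ⟨x a, ?_⟩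
    rw [← e1, ← map_mul, ha, h3]
  have k2 : InT u v → InT (t * u) v := by
    rintro ⟨a, ha⟩
    refine ⟨x a, ?_⟩
    rw [MulAut.mul_apply, ← e2, ← map_mul, ha, h3]
  have k3 : InT (t * u) v → InT t v := by
    rintro ⟨a, ha⟩
    refine ⟨x a, ?_⟩
    rw [MulAut.mul_apply] at ha
    rw [← e3, ← map_mul, ha, h3]
  rcases hw with rfl | rfl | rfl
  · exact .inr ⟨hwv, k1 hwv, k2 (k1 hwv)⟩
  · exact .inr ⟨k3 (k2 hwv), hwv, k2 hwv⟩
  · exact .inr ⟨k3 hwv, k1 (k3 hwv), hwv⟩

variable {V : Type*} [Group V] [Finite V] {X : Subgroup (MulAut V)} (h : Loc X)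
include h

theorem Loc.fix_three_of_card (h168 : Nat.card X = 168) [IsSimpleGroup X] {w : X} (hw : w ^ 3 = 1)
    (hw1 : w ≠ 1) : Nat.card {a : V // (w : MulAut V) a = a} = 4 := by
  classical
  haveI : Fact (Nat.Prime 3) := ⟨Nat.prime_three⟩
  obtain ⟨P, t₁, t₂, z, ht1, -, hz, hzc, htn, -, t12, -, z2, z1, -⟩ := h.common
  obtain ⟨x, hx, hne, hc, hn, -⟩ := h.exists_three h168 P ht1 hz hzc htn t12 z2 z1
  have hfx := h.card_fix_three hx t12 hne hc hn
  have hx1 : x ≠ 1 := fun e => hne (by rw [e, one_mul, mul_one])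
  have sy : ∀ u : X, u ^ 3 = 1 → u ≠ 1 → ∃ Q : Sylow 3 X, (Q : Subgroup X) = zpowers u := by
    intro u hu hu1
    have ho : orderOf u = 3 := orderOf_eq_prime hu hu1
    obtain ⟨Q, hQ⟩ := (IsPGroup.of_card (p := 3) (n := 1) (show Nat.card (zpowers u) = 3 ^ 1 by
      rw [Nat.card_zpowers, ho, pow_one])).exists_le_sylow
    refine ⟨Q, (eq_of_le_of_card_ge hQ ?_).symm⟩
    rw [Nat.card_zpowers, ho]
    obtain ⟨k, hk⟩ := IsPGroup.iff_card.1 Q.isPGroup'
    have hd := Subgroup.card_subgroup_dvd_card (Q : Subgroup X)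
    rw [hk, h168] at hd
    rcases k with _ | _ | k
    · rw [hk]; norm_num
    · rw [hk]; norm_num
    · exact absurd ((pow_dvd_pow 3 (Nat.le_add_left 2 k)).trans hd) (by norm_num)
  obtain ⟨Q, hQ⟩ := sy x hx hx1
  obtain ⟨R, hR⟩ := sy w hw hw1
  obtain ⟨y, hy⟩ := MulAction.exists_smul_eq X R Q
  have hyw : y * w * y⁻¹ ∈ zpowers x := by
    rw [← hQ, ← hy]; exact ⟨w, hR ▸ mem_zpowers w, rfl⟩
  rw [mem_zpowers_iff_mem_range_orderOf, orderOf_eq_prime hx hx1] at hyw
  simp only [Finset.mem_image, Finset.mem_range] at hyw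
  obtain ⟨k, hk, hk'⟩ := hyw
  rw [← card_fix_conj y w, ← hk']
  interval_cases k
  · exact absurd (conj_eq_one_iff.1 (hk'.symm.trans (pow_zero x))) hw1
  · rw [pow_one]; exact hfx
  · rw [← hfx]
    refine Nat.card_congr (Equiv.subtypeEquivRight fun a => ?_)
    rw [SubgroupClass.coe_pow, pow_two, MulAut.mul_apply]
    exact ⟨fun e => fix_of_sq_fix (n := 3) (by decide)
      ((SubgroupClass.coe_pow x _).symm.trans (congrArg Subtype.val hx)) e, fun e => by rw [e, e]⟩

omit h in
/-- The fixed vectors as a subgroup. -/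
def fixSub (x : MulAut V) : Subgroup V := x.toMonoidHom.eqLocus (MonoidHom.id V)

theorem Loc.no_seven (h168 : Nat.card X = 168) [IsSimpleGroup X] {y : X} (hy : y ^ 7 = 1) (hy1 : y ≠ 1) :
    ¬ 8 ≤ Nat.card {a : V // (y : MulAut V) a = a} := by
  classical
  haveI : Fact (Nat.Prime 7) := ⟨by norm_num⟩
  intro h8
  obtain ⟨z, hzX, hz1, hz2, h16⟩ := h.z16
  obtain ⟨v, hv1, hvy, hvz⟩ : ∃ v : V, v ≠ 1 ∧ (y : MulAut V) v = v ∧ z v = v := by
    by_contra hall
    push Not at hall
    have hle := Nat.card_le_card_of_injective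
      (fun p : fixSub (y : MulAut V) × fixSub z => (p.1 : V) * p.2) fun p q e => by
        have e' : (q.1 : V)⁻¹ * p.1 = q.2 * (p.2 : V)⁻¹ := by
          calc (q.1 : V)⁻¹ * p.1 = (q.1 : V)⁻¹ * ((p.1 : V) * p.2) * (p.2 : V)⁻¹ := by group
            _ = (q.1 : V)⁻¹ * ((q.1 : V) * q.2) * (p.2 : V)⁻¹ := by rw [show (p.1 : V) * p.2 = q.1 * q.2 from e]
            _ = _ := by group
        have m1 : (q.1 : V)⁻¹ * p.1 ∈ fixSub (y : MulAut V) := mul_mem (inv_mem q.1.2) p.1.2
        have m2 : (q.1 : V)⁻¹ * p.1 ∈ fixSub z := e' ▸ mul_mem q.2.2 (inv_mem p.2.2)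
        have h0 : (q.1 : V)⁻¹ * p.1 = 1 := by_contra fun hne => hall _ hne m1 m2
        refine Prod.ext (Subtype.ext (inv_mul_eq_one.1 h0).symm) (Subtype.ext ?_)
        rw [h0] at e'
        exact (mul_inv_eq_one.1 e'.symm).symm
    have e1 : 8 ≤ Nat.card (fixSub (y : MulAut V)) := h8
    have e2 : 16 ≤ Nat.card (fixSub z) := h16
    rw [Nat.card_prod, h.card] at hle
    have := Nat.mul_le_mul e1 e2
    omega
  let H : Subgroup X := (MulAction.stabilizer (MulAut V) v).subgroupOf X
  have hyH : y ∈ H := hvy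
  have hzH : (⟨z, hzX⟩ : X) ∈ H := hvz
  have index_ge : ∀ K : Subgroup X, K ≠ ⊤ → 7 ≤ K.index := by
    intro K hK
    by_contra hlt
    push Not at hlt
    have hcore : K.normalCore = ⊥ :=
      (Subgroup.Normal.eq_bot_or_eq_top (H := K.normalCore) inferInstance).resolve_right fun e =>
        hK (top_le_iff.1 (e ▸ normalCore_le K))
    haveI := Fintype.ofFinite (X ⧸ K)
    have hinj : Function.Injective (MulAction.toPermHom X (X ⧸ K)) := by
      rw [← MonoidHom.ker_eq_bot_iff, ← normalCore_eq_ker, hcore]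
    have hd := Subgroup.card_dvd_of_injective _ hinj
    rw [h168, Nat.card_perm, ← index_eq_card] at hd
    have hd' : 168 ∣ Nat.factorial 6 := hd.trans (Nat.factorial_dvd_factorial (by omega))
    norm_num [Nat.factorial] at hd'
  have hfix : ∀ g : X, (g : MulAut V) v = v := by
    intro g
    by_cases hH : H = ⊤
    · exact (hH ▸ mem_top g : g ∈ H)
    exfalso
    set Y := zpowers y with hY
    have hoy : orderOf y = 7 := orderOf_eq_prime hy hy1
    have hoz : orderOf (⟨z, hzX⟩ : X) = 2 := orderOf_eq_prime (Subtype.ext (by rw [SubgroupClass.coe_pow, pow_two]; exact hz2))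
      fun e => hz1 (congrArg Subtype.val e)
    have hYH : Y ≤ H := zpowers_le.2 hyH
    have d7 : 7 ∣ Nat.card H := by
      rw [← hoy, ← Nat.card_zpowers]; exact Subgroup.card_dvd_of_le hYH
    have d2 : 2 ∣ Nat.card H := by
      rw [← hoz, ← Nat.card_zpowers]; exact Subgroup.card_dvd_of_le (zpowers_le.2 hzH)
    have hmul := Subgroup.card_mul_index H
    rw [h168] at hmul
    have hi := index_ge H hH
    have h14 : Nat.card H = 14 := by
      have hle := Nat.mul_le_mul_left (Nat.card H) hi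
      have hpos : 0 < Nat.card H := Nat.card_pos
      omega
    have hnH : H ≤ normalizer (Y : Set X) := by
      haveI : (Y.subgroupOf H).Normal := Subgroup.normal_of_index_eq_two (by
        have h2 := Subgroup.card_mul_index (Y.subgroupOf H)
        rw [Nat.card_congr (subgroupOfEquivOfLe hYH).toEquiv, Nat.card_zpowers, hoy, h14] at h2
        omega)
      intro g hg
      rw [mem_normalizer_iff]
      intro n
      constructor
      · intro hn
        exact mem_subgroupOf.1 (Normal.conj_mem inferInstance ⟨n, hYH hn⟩ (mem_subgroupOf.2 hn) (⟨g, hg⟩ : H))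
      · intro hn
        have := mem_subgroupOf.1 (Normal.conj_mem inferInstance ⟨g * n * g⁻¹, hYH hn⟩ (mem_subgroupOf.2 hn)
          (⟨g, hg⟩⁻¹ : H))
        simpa [mul_assoc] using this
    set N := normalizer (Y : Set X)
    have hNtop : N ≠ ⊤ := fun e => by
      haveI : Y.Normal := normalizer_eq_top_iff.1 e
      rcases Subgroup.Normal.eq_bot_or_eq_top (H := Y) inferInstance with e1 | e1
      · exact hy1 (zpowers_eq_bot.1 e1)
      · have : Nat.card Y = 168 := by rw [e1, Subgroup.card_top, h168]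
        rw [Nat.card_zpowers, hoy] at this
        norm_num at this
    have hNi := index_ge N hNtop
    have hmulN := Subgroup.card_mul_index N
    rw [h168] at hmulN
    have hN14 : 14 ∣ Nat.card N := h14 ▸ Subgroup.card_dvd_of_le hnH
    have hN : N.index = 12 := by
      have := Nat.mul_le_mul_left (Nat.card N) hNi
      obtain ⟨c, hc⟩ := hN14
      have hc1 : c = 1 := by
        rcases c with _ | _ | c
        · simp [hc] at hmulN
        · rfl
        · omega
      rw [hc, hc1] at hmulN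
      omega
    obtain ⟨Q, hQ⟩ := (IsPGroup.of_card (p := 7) (n := 1) (show Nat.card Y = 7 ^ 1 by
      rw [Nat.card_zpowers, hoy, pow_one])).exists_le_sylow
    have hQY : (Q : Subgroup X) = Y := by
      refine (eq_of_le_of_card_ge hQ ?_).symm
      rw [Nat.card_zpowers, hoy]
      obtain ⟨k, hk⟩ := IsPGroup.iff_card.1 Q.isPGroup'
      have hd := Subgroup.card_subgroup_dvd_card (Q : Subgroup X)
      rw [hk, h168] at hd
      rcases k with _ | _ | k
      · rw [hk]; norm_num
      · rw [hk]; norm_num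
      · exact absurd ((pow_dvd_pow 7 (Nat.le_add_left 2 k)).trans hd) (by norm_num)
    have hc1 := card_sylow_modEq_one 7 X
    rw [Sylow.card_eq_index_normalizer Q] at hc1
    change (normalizer ((Q : Subgroup X) : Set X)).index ≡ 1 [MOD 7] at hc1
    rw [hQY, hN] at hc1
    exact absurd hc1 (by decide)
  obtain ⟨P, t₁, t₂, z₀, ht1, ht2, hz, hzc, htn1, htn2, t12, t22, z2, z1, hcommon⟩ := h.common
  have step : ∀ t : X, t ∈ (P : Subgroup X) → (∃ p ∈ (P : Subgroup X), p * t ≠ t * p) → t * t = 1 →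
      InT (t : MulAut V) v ∧ InT (z₀ : MulAut V) v := by
    intro t htP htn ht2'
    obtain ⟨x, hx, hne, hc, hn, hu⟩ := h.exists_three h168 P htP hz hzc htn ht2' z2 z1
    set u := x * t * x⁻¹ with hudef
    have ht1' : t ≠ 1 := fun e => hne (by rw [e, mul_one, one_mul])
    have hu2 : u * u = 1 := by rw [hudef, conj_mul, ht2', mul_one, mul_inv_cancel]
    have hu1 : u ≠ 1 := fun e => ht1' (conj_eq_one_iff.1 e)
    have htu : t ≠ u := fun e => hne (mul_inv_eq_iff_eq_mul.1 e.symm)
    rcases (h.four' ht1' hu1 htu ht2' hu2 hc).inT_of_fixed (x := (x : MulAut V))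
      (congrArg Subtype.val (show x * t = u * x by rw [hudef, inv_mul_cancel_right]))
      (congrArg Subtype.val (show x * u = t * u * x by rw [← hn, inv_mul_cancel_right]))
      (hfix t) (hfix u) (hfix x) with e | ⟨a1, a2, a3⟩
    · exact absurd e hv1
    refine ⟨a1, ?_⟩
    rcases hu with e | e
    · rwa [e] at a2
    · have e' : t * u = z₀ := by rw [e, ← mul_assoc, ht2', one_mul]
      rw [← Subgroup.coe_mul, e'] at a3
      exact a3
  obtain ⟨a1, a3⟩ := step t₁ ht1 htn1 t12
  obtain ⟨a2, -⟩ := step t₂ ht2 htn2 t22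
  exact hv1 (hcommon v a1 a2 a3)

/-- The structure of the automizer. -/
theorem Loc.cases : Nat.card X = 8 ∨
    (Nat.card X = 24 ∧ ∀ w : X, w ^ 3 = 1 → w ≠ 1 → Nat.card {a : V // (w : MulAut V) a = a} = 4) ∨
    (Nat.card X = 168 ∧ (∀ w : X, w ^ 3 = 1 → w ≠ 1 → Nat.card {a : V // (w : MulAut V) a = a} = 4) ∧
      ∀ y : X, y ^ 7 = 1 → y ≠ 1 → ¬ 8 ≤ Nat.card {a : V // (y : MulAut V) a = a}) := by
  classical
  rcases GW.knownCore_of_simpleHyp h.dihType h.oddCore_eq_bot (GW.simpleHyp _) with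
    h2 | ⟨⟨e⟩⟩ | ⟨⟨e⟩⟩ | ⟨L, hL, hLP, -⟩
  · left
    haveI : Fact (Nat.Prime 2) := ⟨Nat.prime_two⟩
    obtain ⟨P, -⟩ := h.sylow
    have : (⊤ : Subgroup X) = (P : Subgroup X) := P.3 (h2.to_subgroup ⊤) le_top
    rw [← Subgroup.card_top, this, h.card_sylow P]
  · exfalso
    have := h.eight_dvd
    rw [Nat.card_congr e.toEquiv, Nat.card_eq_fintype_card] at this
    exact absurd this (by decide)
  · right; left
    refine ⟨?_, fun w hw hw1 => ?_⟩
    · rw [Nat.card_congr e.toEquiv, Nat.card_eq_fintype_card]; decide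
    have key : ∀ σ : Equiv.Perm (Fin 4), σ ^ 3 = 1 → σ ≠ 1 →
        let t := Equiv.swap (0 : Fin 4) 1 * Equiv.swap 2 3
        σ * t ≠ t * σ ∧ t * (σ * t * σ⁻¹) = σ * t * σ⁻¹ * t ∧
          σ * (σ * t * σ⁻¹) * σ⁻¹ = t * (σ * t * σ⁻¹) := by decide +kernel
    obtain ⟨k1, k2, k3⟩ := key (e w) (by rw [← map_pow, hw, map_one])
      (fun e1 => hw1 ((MulEquiv.map_eq_one_iff e).1 e1))
    refine h.card_fix_three (t := e.symm (Equiv.swap (0 : Fin 4) 1 * Equiv.swap 2 3)) hw ?_ ?_ ?_ ?_
    · rw [← map_mul, ← map_one e.symm]; exact congrArg e.symm (by decide +kernel)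
    · intro e1
      exact k1 (by simpa [map_mul] using congrArg e e1)
    · exact e.injective (by simpa [map_mul, map_inv] using k2)
    · exact e.injective (by simpa [map_mul, map_inv] using k3)
  · rcases hLP with ⟨F, iF, iFin, hodd, h3, ⟨e⟩⟩ | ⟨e⟩
    · have hN := Linear.card_PSL_two_odd (F := F) hodd
      rw [← Nat.card_congr e.toEquiv] at hN
      rcases psl_param (FiniteField.isPrimePow_card F) hodd h3 hN
        ((Subgroup.card_subgroup_dvd_card L).trans h.card_dvd)
        (fun h16 => h.not_sixteen_dvd (h16.trans (Subgroup.card_subgroup_dvd_card L))) with hq | hq | hq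
      · obtain ⟨i⟩ := Cfsg.Agent.S0253.result (F := F) hq
        exact (h.no_altFive L hL (e.trans i)).elim
      · right; right
        haveI := hL
        rw [hq] at hN
        have h168 : Nat.card L = 168 := by norm_num at hN; omega
        have htop : L = ⊤ := h.eq_top_of_normal L (by rw [h168]; norm_num)
        subst htop
        rw [Subgroup.card_top] at h168
        haveI : IsSimpleGroup (Matrix.ProjectiveSpecialLinearGroup (Fin 2) F) :=
          Linear.isSimpleGroup_PSL_of 2 le_rfl fun _ => by omega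
        haveI : IsSimpleGroup X := (Subgroup.topEquiv.symm.trans e).isSimpleGroup
        exact ⟨h168, fun w => h.fix_three_of_card h168, fun y => h.no_seven h168⟩
      · obtain ⟨i⟩ := Cfsg.Agent.S0254.result (F := F) hq
        exact (h.no_altSix (L.subtype.comp (e.trans i).symm.toMonoidHom)
          (L.subtype_injective.comp (e.trans i).symm.injective)).elim
    · obtain ⟨e⟩ := e
      exact (h.no_altSeven (L.subtype.comp e.symm.toMonoidHom)
        (L.subtype_injective.comp e.symm.injective)).elim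

end CfsgLib.MModel24
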