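import Cfsg.Agent.MModel24.AutoBasic
import Mathlib.GroupTheory.SpecificGroups.Alternating
import Mathlib.GroupTheory.GroupAction.Quotient
import Mathlib.LinearAlgebra.Matrix.GeneralLinearGroup.Card
import Mathlib.LinearAlgebra.Dimension.Free
import Mathlib.LinearAlgebra.Matrix.ToLin
import Mathlib.Algebra.Module.ZMod

/-!
# The automizer contains no `A₇`, `A₆`, and is no almost simple extension of `A₅`
-/

set_option autoImplicit false
set_option linter.style.haveILetI false
set_option linter.unusedSectionVars false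
set_option maxRecDepth 20000

namespace CfsgLib.MModel24

open Subgroup Equiv

variable {V : Type*} [Group V] [Finite V] {X : Subgroup (MulAut V)} (h : Loc X)
include h

/-- The order of the automizer divides `|GL₆(2)|`. -/
theorem Loc.card_dvd : Nat.card X ∣ 20158709760 := by
  classical
  refine (Subgroup.card_subgroup_dvd_card X).trans ?_
  letI : CommGroup V := { (inferInstance : Group V) with mul_comm := h.comm }
  letI : Module (ZMod 2) (Additive V) := AddCommGroup.zmodModule (fun a => by
    rw [two_nsmul]; exact h.sq a.toMul)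
  haveI : Fact (Nat.Prime 2) := ⟨Nat.prime_two⟩
  have hfin : Module.finrank (ZMod 2) (Additive V) = 6 := by
    have := Module.natCard_eq_pow_finrank (K := ZMod 2) (V := Additive V)
    rw [show Nat.card (Additive V) = 2 ^ 6 by rw [Nat.card_congr Additive.toMul, h.card]; norm_num,
      Nat.card_zmod] at this
    exact (Nat.pow_right_injective le_rfl this).symm
  let b := Module.finBasisOfFinrankEq (ZMod 2) (Additive V) hfin
  let M : MulAut V → Matrix (Fin 6) (Fin 6) (ZMod 2) := fun f =>
    LinearMap.toMatrix b b ((MonoidHom.toAdditive f.toMonoidHom).toZModLinearMap 2)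
  let ψ : MulAut V →* Matrix (Fin 6) (Fin 6) (ZMod 2) :=
    { toFun := M
      map_one' := by
        show LinearMap.toMatrix b b _ = 1
        rw [show (MonoidHom.toAdditive (1 : MulAut V).toMonoidHom).toZModLinearMap 2 = LinearMap.id from
          LinearMap.ext fun a => rfl, LinearMap.toMatrix_id]
      map_mul' := fun f g => by
        show LinearMap.toMatrix b b _ = LinearMap.toMatrix b b _ * LinearMap.toMatrix b b _
        rw [← LinearMap.toMatrix_comp]
        rfl }
  let ψ' : MulAut V →* GL (Fin 6) (ZMod 2) := ψ.toHomUnits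
  have hinj : Function.Injective ψ' := fun f g e => by
    have e' : M f = M g := congrArg Units.val e
    have := (LinearMap.toMatrix b b).injective e'
    exact MulEquiv.ext fun a => congrArg Additive.toMul (LinearMap.congr_fun this (Additive.ofMul a))
  refine (Subgroup.card_dvd_of_injective ψ' hinj).trans ?_
  rw [Matrix.card_GL_field, ZMod.card]
  simp [Fin.prod_univ_succ]

/-- No subgroup `A₇`. -/
theorem Loc.no_altSeven (f : alternatingGroup (Fin 7) →* X) (hf : Function.Injective f) : False := by
  let t : alternatingGroup (Fin 7) := ⟨swap 3 4 * swap 5 6, by rw [Perm.mem_alternatingGroup]; decide⟩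
  let d : alternatingGroup (Fin 7) := ⟨swap 1 2 * swap 3 4, by rw [Perm.mem_alternatingGroup]; decide⟩
  let x : alternatingGroup (Fin 7) := ⟨swap 0 1 * swap 1 2, by rw [Perm.mem_alternatingGroup]; decide⟩
  have e1 : t ≠ 1 := by decide
  have e2 : t * t = 1 := by decide
  have e3 : t * d = d * t := by decide
  have e4 : d ^ 2 ^ 1 = 1 := by decide
  have e5 : x ^ 3 = 1 := by decide
  have e6 : x * t = t * x := by decide
  have e7 : d * x * d⁻¹ = x⁻¹ := by decide
  have e8 : x ≠ 1 := by decide
  exact e8 (hf ((h.key_trivial (t := f t) (f := f d) (x := f x) (fun e => e1 (hf (e.trans (map_one f).symm)))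
    (by rw [← map_mul, e2, map_one]) (by rw [← map_mul, e3, map_mul]) (j := 1)
    (by rw [← map_pow, e4, map_one]) (n := 3) (by decide) (by rw [← map_pow, e5, map_one])
    (by rw [← map_mul, e6, map_mul]) (by rw [← map_inv, ← map_mul, ← map_mul, e7, map_inv])).trans (map_one f).symm))

omit h in
/-- The elementary abelian group of order nine in `A₆`. -/
def nine (a b : Fin 3) : alternatingGroup (Fin 6) :=
  ⟨(swap (0 : Fin 6) 1 * swap 1 2) ^ (a : ℕ) * (swap (3 : Fin 6) 4 * swap 4 5) ^ (b : ℕ), by
    rw [Perm.mem_alternatingGroup]; revert a b; decide⟩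

omit h in
theorem nine_mul : ∀ a b c d : Fin 3, nine a b * nine c d = nine (a + c) (b + d) := by decide

omit h in
/-- Involutions of `A₆` in four groups normalized by elements of `nine`. -/
def nineT : Fin 4 → Perm (Fin 6)
  | 0 => swap 0 1 * swap 2 3
  | 1 => swap 3 4 * swap 2 5
  | 2 => swap 0 3 * swap 1 4
  | 3 => swap 0 3 * swap 1 5

omit h in
theorem nine_rot : ∀ a b : Fin 3, (a, b) ≠ (0, 0) →
    ∃ i : Fin 4, let t : Perm (Fin 6) := nineT i
      let x : Perm (Fin 6) := nine a b
      Perm.sign t = 1 ∧ t * t = 1 ∧ x * t ≠ t * x ∧ t * (x * t * x⁻¹) = x * t * x⁻¹ * t ∧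
        x * (x * t * x⁻¹) * x⁻¹ = t * (x * t * x⁻¹) := by decide

/-- No subgroup `A₆`. -/
theorem Loc.no_altSix (f : alternatingGroup (Fin 6) →* X) (hf : Function.Injective f) : False := by
  classical
  haveI := Fintype.ofFinite V
  let ρ : Multiplicative (Fin 3 × Fin 3) →* MulAut V :=
    X.subtype.comp (f.comp (MonoidHom.mk' (fun p => nine (Multiplicative.toAdd p).1 (Multiplicative.toAdd p).2)
      fun p q => (nine_mul _ _ _ _).symm))
  letI : MulAction (Multiplicative (Fin 3 × Fin 3)) V := MulAction.compHom V ρ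
  have hfix : ∀ p : Multiplicative (Fin 3 × Fin 3),
      Fintype.card (MulAction.fixedBy V p) = if p = 1 then 64 else 4 := by
    intro p
    rw [← Nat.card_eq_fintype_card]
    split
    · subst p
      rw [← h.card]
      exact Nat.card_congr (Equiv.subtypeUnivEquiv fun v => one_smul _ v)
    · rename_i hp
      set a := (Multiplicative.toAdd p).1
      set b := (Multiplicative.toAdd p).2
      obtain ⟨i, hs, h2, hne, hc, hn⟩ := nine_rot a b (fun e => hp (Multiplicative.toAdd.injective e))
      set t : Perm (Fin 6) := _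
      let t' : alternatingGroup (Fin 6) := ⟨t, Perm.mem_alternatingGroup.2 hs⟩
      let x : alternatingGroup (Fin 6) := nine a b
      have hx3 : ∀ a b : Fin 3, nine a b ^ 3 = 1 := by decide
      have := h.card_fix_three (x := f x) (t := f t') (by rw [← map_pow, hx3, map_one])
        (by rw [← map_mul, show t' * t' = 1 from Subtype.ext h2, map_one])
        (fun e => hne (congrArg Subtype.val (hf (by rwa [map_mul, map_mul]) : x * t' = t' * x) :))
        (by simp only [← map_inv, ← map_mul]; exact congrArg f (Subtype.ext hc))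
        (by simp only [← map_inv, ← map_mul]; exact congrArg f (Subtype.ext hn))
      rw [← this]
      exact Nat.card_congr (Equiv.subtypeEquivRight fun v => Iff.rfl)
  have hb := MulAction.sum_card_fixedBy_eq_card_orbits_mul_card_group (Multiplicative (Fin 3 × Fin 3)) V
  simp only [hfix] at hb
  rw [Finset.sum_ite, Finset.sum_const, Finset.sum_const, Finset.filter_eq', if_pos (Finset.mem_univ _),
    Finset.card_singleton] at hb
  have hc1 : (Finset.univ.filter fun p : Multiplicative (Fin 3 × Fin 3) => ¬ p = 1).card = 8 := by decide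
  have hc2 : Fintype.card (Multiplicative (Fin 3 × Fin 3)) = 9 := by decide
  rw [hc1, hc2] at hb
  simp only [smul_eq_mul] at hb
  omega

/-- `X` is no extension of `A₅` by an odd number of elements times two. -/
theorem Loc.no_altFive (L : Subgroup X) (hL : L.Normal) (e : L ≃* alternatingGroup (Fin 5)) : False := by
  classical
  let x0 : alternatingGroup (Fin 5) := ⟨swap 0 1 * swap 1 2, by rw [Perm.mem_alternatingGroup]; decide⟩
  let s0 : alternatingGroup (Fin 5) := ⟨swap 0 1 * swap 3 4, by rw [Perm.mem_alternatingGroup]; decide⟩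
  have hx3 : x0 ^ 3 = 1 := by decide
  have hx1 : x0 ≠ 1 := by decide
  have hs : s0 * x0 * s0⁻¹ = x0⁻¹ := by decide
  have hclass : ∀ y : alternatingGroup (Fin 5), y ^ 3 = 1 → y ≠ 1 → ∃ g, g * x0 * g⁻¹ = y := by decide +kernel
  have h20 : (Finset.univ.filter fun y : alternatingGroup (Fin 5) => y ^ 3 = 1 ∧ y ≠ 1).card = 20 := by
    decide +kernel
  let f : alternatingGroup (Fin 5) →* X := L.subtype.comp e.symm.toMonoidHom
  have hf : Function.Injective f := L.subtype_injective.comp e.symm.injective
  set x := f x0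
  set C := centralizer ({x} : Set X)
  have himg : ∀ g : X, g * x * g⁻¹ ∈ L := fun g => hL.conj_mem _ (e.symm x0).2 g
  have hx3' : x ^ 3 = 1 := by rw [← map_pow, hx3, map_one]
  have hindex : C.index = 20 := by
    rw [← h20, ← Nat.card_eq_finsetCard, Subgroup.index_eq_card]
    have hmem : ∀ g : X, e ⟨g * x * g⁻¹, himg g⟩ ∈
        Finset.univ.filter fun y : alternatingGroup (Fin 5) => y ^ 3 = 1 ∧ y ≠ 1 := by
      intro g
      refine Finset.mem_filter.2 ⟨Finset.mem_univ _, ?_, fun h1 => hx1 (hf ?_)⟩
      · rw [← map_pow, ← map_one e]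
        refine congrArg e (Subtype.ext ?_)
        rw [SubgroupClass.coe_pow, Subgroup.coe_one]
        show (g * x * g⁻¹) ^ 3 = 1
        rw [conj_pow, hx3', mul_one, mul_inv_cancel]
      · rw [map_one]
        exact conj_eq_one_iff.1 (congrArg Subtype.val ((MulEquiv.map_eq_one_iff e).1 h1) : g * x * g⁻¹ = 1)
    refine Nat.card_eq_of_bijective (Quotient.lift
      (fun g => (⟨e ⟨g * x * g⁻¹, himg g⟩, hmem g⟩ : {y // y ∈ Finset.univ.filter
        fun y : alternatingGroup (Fin 5) => y ^ 3 = 1 ∧ y ≠ 1})) ?_) ⟨?_, ?_⟩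
    · intro a b hab
      have hc := mem_centralizer_singleton_iff.1 (QuotientGroup.leftRel_apply.1 hab)
      refine Subtype.ext (congrArg e (Subtype.ext ?_))
      show a * x * a⁻¹ = b * x * b⁻¹
      calc a * x * a⁻¹ = a * (x * (a⁻¹ * b)) * b⁻¹ := by group
        _ = a * (a⁻¹ * b * x) * b⁻¹ := by rw [hc]
        _ = _ := by group
    · intro q r hqr
      induction q using Quotient.inductionOn with | h a => ?_
      induction r using Quotient.inductionOn with | h b => ?_
      have e' : a * x * a⁻¹ = b * x * b⁻¹ :=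
        congrArg Subtype.val (e.injective (congrArg Subtype.val hqr))
      refine Quotient.sound (QuotientGroup.leftRel_apply.2 (mem_centralizer_singleton_iff.2 ?_))
      calc a⁻¹ * b * x = a⁻¹ * (b * x * b⁻¹) * b := by group
        _ = a⁻¹ * (a * x * a⁻¹) * b := by rw [e']
        _ = _ := by group
    · rintro ⟨y, hy⟩
      obtain ⟨g, hg⟩ := hclass y (Finset.mem_filter.1 hy).2.1 (Finset.mem_filter.1 hy).2.2
      refine ⟨Quotient.mk _ (f g), Subtype.ext ?_⟩
      refine Eq.trans (congrArg e (Subtype.ext ?_)) (e.apply_symm_apply y)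
      show f g * x * (f g)⁻¹ = _
      rw [← hg, map_mul, map_mul, map_inv]
      rfl
  have hmul := Subgroup.card_mul_index C
  rw [hindex] at hmul
  have h8 := h.eight_dvd
  have h16 := h.not_sixteen_dvd
  have h4 : ¬ 4 ∣ Nat.card C := fun h4 => h16 (by omega)
  haveI : Fact (Nat.Prime 2) := ⟨Nat.prime_two⟩
  obtain ⟨t, ht⟩ := exists_prime_orderOf_dvd_card' (G := C) 2 (by omega)
  have ht2 : t * t = 1 := by rw [← pow_two, ← ht, pow_orderOf_eq_one]
  have ht1 : (t : X) ≠ 1 := fun e1 => by
    rw [show t = 1 from Subtype.ext e1, orderOf_one] at ht; omega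
  -- `f s0` inverts `x` and moves `t` inside `C`
  set s := f s0
  have hsx : s * x * s⁻¹ = x⁻¹ := by rw [← map_inv, ← map_inv, ← map_mul, ← map_mul, hs]
  have htx : (t : X) * x = x * t := mem_centralizer_singleton_iff.1 t.2
  have hst : s * t * s⁻¹ ∈ C := mem_centralizer_singleton_iff.2 (by
    have e1 : x = s * x⁻¹ * s⁻¹ := by
      rw [show s * x⁻¹ * s⁻¹ = (s * x * s⁻¹)⁻¹ by group, hsx, inv_inv]
    calc s * t * s⁻¹ * x = s * t * s⁻¹ * (s * x⁻¹ * s⁻¹) := by rw [← e1]
      _ = s * ((t : X) * x⁻¹) * s⁻¹ := by group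
      _ = s * (x⁻¹ * t) * s⁻¹ := by rw [(show Commute (t : X) x from htx).inv_right.eq]
      _ = s * x⁻¹ * s⁻¹ * (s * t * s⁻¹) := by group
      _ = _ := by rw [← e1])
  set t' : C := ⟨s * t * s⁻¹, hst⟩
  have hT : ∀ u : C, orderOf u = 2 → ∃ Q : Sylow 2 C, (Q : Subgroup C) = zpowers u := fun u hu => by
    obtain ⟨Q, hQ⟩ := (IsPGroup.of_card (p := 2) (n := 1) (show Nat.card (zpowers u) = 2 ^ 1 by
      rw [Nat.card_zpowers, hu, pow_one])).exists_le_sylow
    refine ⟨Q, (eq_of_le_of_card_ge hQ ?_).symm⟩
    rw [Nat.card_zpowers, hu]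
    obtain ⟨k, hk⟩ := IsPGroup.iff_card.1 Q.isPGroup'
    rcases k with _ | _ | k
    · rw [hk]; norm_num
    · rw [hk]; norm_num
    · exact absurd ((Dvd.intro (2 ^ k) (by rw [hk]; ring)).trans (Subgroup.card_subgroup_dvd_card _)) h4
  obtain ⟨Q, hQ⟩ := hT t ht
  obtain ⟨Q', hQ'⟩ := hT t' (by
    rw [← Subgroup.orderOf_coe, show (t' : X) = MulAut.conj s (t : X) from rfl, MulEquiv.orderOf_eq,
      Subgroup.orderOf_coe, ht])
  obtain ⟨c, hc⟩ := MulAction.exists_smul_eq C Q' Q
  have hct : c * t' * c⁻¹ = t := by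
    have : c * t' * c⁻¹ ∈ (Q : Subgroup C) := by rw [← hc]; exact ⟨t', hQ' ▸ mem_zpowers _, rfl⟩
    rw [hQ, mem_zpowers_iff_mem_range_orderOf, ht] at this
    simp only [Finset.mem_image, Finset.mem_range] at this
    obtain ⟨k, hk, hk'⟩ := this
    interval_cases k
    · exfalso
      rw [pow_zero, eq_comm, conj_eq_one_iff] at hk'
      exact ht1 (conj_eq_one_iff.1 (congrArg Subtype.val hk' : s * t * s⁻¹ = 1))
    · rw [← hk', pow_one]
  set g := (c : X) * s
  have hgt : (t : X) * g = g * t := by
    have e1 : (c : X) * (s * t * s⁻¹) * (c : X)⁻¹ = t := congrArg Subtype.val hct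
    calc (t : X) * g = (c : X) * (s * t * s⁻¹) * (c : X)⁻¹ * (c * s) := by rw [e1]
      _ = _ := by simp only [g]; group
  have hgx : g * x * g⁻¹ = x⁻¹ := by
    rw [show g * x * g⁻¹ = (c : X) * (s * x * s⁻¹) * (c : X)⁻¹ by simp only [g]; group, hsx,
      (show Commute (c : X) x from mem_centralizer_singleton_iff.1 c.2).inv_right.eq, mul_inv_cancel_right]
  -- make `g` a 2-element
  obtain ⟨j, m, hm, hjm⟩ := Nat.exists_eq_two_pow_mul_odd (orderOf_pos g).ne'
  have hgm : ∀ k : ℕ, g ^ k * x * (g ^ k)⁻¹ = if Even k then x else x⁻¹ := by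
    intro k
    induction k with
    | zero => simp
    | succ k ih =>
      rw [pow_succ', show g * g ^ k * x * (g * g ^ k)⁻¹ = g * (g ^ k * x * (g ^ k)⁻¹) * g⁻¹ by group, ih]
      by_cases hk : Even k
      · rw [if_pos hk, if_neg (by simpa [Nat.even_add_one] using hk), hgx]
      · rw [if_neg hk, if_pos (by simpa [Nat.even_add_one] using hk),
          show g * x⁻¹ * g⁻¹ = (g * x * g⁻¹)⁻¹ by group, hgx, inv_inv]
  have hfin := h.key_trivial (f := g ^ m) ht1 (congrArg Subtype.val ht2 :) ((show Commute (t : X) g from hgt).pow_right m).eq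
    (j := j) (by rw [← pow_mul, mul_comm, ← hjm, pow_orderOf_eq_one]) (n := 3) (by decide) hx3' htx.symm
    (by rw [hgm m, if_neg (Nat.not_even_iff_odd.2 hm)])
  exact hx1 (hf (hfin.trans (map_one f).symm))

end CfsgLib.MModel24
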