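import Mathlib

/-!
# Automorphisms of odd order of an elementary abelian 2-group commuting with involutions
-/

set_option autoImplicit false

namespace CfsgLib.MModel24

variable {V : Type*} [Group V]

/-- The set of commutators with an automorphism. -/
def InT (t : MulAut V) (c : V) : Prop := ∃ a, t a * a = c

/-- The configuration of a four group of automorphisms. -/
structure FourData (t u : MulAut V) : Prop where
  ht : ∀ a, t (t a) = a
  hu : ∀ a, u (u a) = a
  htu : ∀ a, t (u a) = u (t a)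
  hT1 : ∀ a, u (t a * a) = t a * a
  hT2 : ∀ a, t (u a * a) = u a * a
  hI : ∃ i0 : V, i0 ≠ 1 ∧ InT t i0 ∧ InT u i0 ∧ InT (t * u) i0 ∧
    (∀ c, InT t c → InT u c → c = 1 ∨ c = i0) ∧
    (∀ c, InT u c → InT (t * u) c → c = 1 ∨ c = i0) ∧
    (∀ c, t c = c → u c = c → c = 1 ∨ c = i0 ∨ ∃ w : MulAut V, (w = t ∨ w = u ∨ w = t * u) ∧
      InT w c ∧ ∀ d, InT w d → d = 1 ∨ d = i0 ∨ d = c ∨ d = c * i0)
  hidx : ∀ a b, t a ≠ a → u a ≠ a → (t * u) a ≠ a → t b ≠ b → u b ≠ b → (t * u) b ≠ b →
    t (a * b) = a * b ∨ u (a * b) = a * b ∨ (t * u) (a * b) = a * b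

/-- The configuration of an involution and a commuting automorphism. -/
structure KeyData (t f : MulAut V) : Prop where
  h1 : ∀ a, f (t a * a) = t a * a
  h2 : ∀ c, t c = c → InT t (f c * c)

theorem fix_of_sq_fix {x : MulAut V} {n : ℕ} (hn : Odd n) (hx : x ^ n = 1) {a : V}
    (h : x (x a) = a) : x a = a := by
  obtain ⟨k, rfl⟩ := hn
  have hk : ∀ j : ℕ, (x ^ (2 * j)) a = a := by
    intro j
    induction j with
    | zero => simp
    | succ j ih =>
      rw [show 2 * (j + 1) = 2 * j + 1 + 1 by ring, pow_succ, pow_succ, MulAut.mul_apply,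
        MulAut.mul_apply, h, ih]
  have h1 := hk k
  have : (x ^ (2 * k + 1)) a = a := by rw [hx]; rfl
  rw [pow_succ', MulAut.mul_apply, h1] at this
  exact this

section
variable (hc : ∀ a b : V, a * b = b * a) (hsq : ∀ a : V, a * a = 1)
include hc hsq

theorem fix_of_mul_fix {x : MulAut V} {n : ℕ} (hn : Odd n) (hx : x ^ n = 1) {a : V}
    (h : x (x a * a) = x a * a) : x a = a := by
  refine fix_of_sq_fix hn hx ?_
  rw [map_mul] at h
  calc x (x a) = x (x a) * (x a * x a) := by rw [hsq, mul_one]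
    _ = (x (x a) * x a) * x a := by rw [mul_assoc]
    _ = (x a * a) * x a := by rw [h]
    _ = (a * x a) * x a := by rw [hc (x a) a]
    _ = a := by rw [mul_assoc, hsq, mul_one]

theorem mul_cancel_mid (τ p q : V) : τ * p * (τ * q) = p * q := by
  rw [hc τ p, mul_assoc, ← mul_assoc τ τ q, hsq, one_mul]

theorem eq_mul_of_mul_eq {p q r : V} (h : p * q = r) : p = r * q := by
  rw [← h, mul_assoc, hsq, mul_one]

theorem map_eq_of_image_fix {x t : MulAut V} (hxt : ∀ a, x (t a) = t (x a)) {a : V}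
    (e : x (t a * a) = t a * a) : t (x a * a) = x a * a := by
  rw [map_mul, hxt] at e
  rw [map_mul, eq_mul_of_mul_eq hc hsq e]
  generalize t a = p
  generalize x a = q
  calc p * a * q * p = p * (a * q) * p := by rw [mul_assoc p a q]
    _ = a * q * (p * p) := by rw [hc p (a * q), mul_assoc]
    _ = q * a := by rw [hsq, mul_one, hc]

/-- An automorphism of odd order commuting with `t` and inverted by `f` is trivial. -/
theorem KeyData.trivial {t f x : MulAut V} (d : KeyData t f) {n : ℕ} (hn : Odd n) (hx : x ^ n = 1)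
    (hxt : x * t = t * x) (hfx : f * x * f⁻¹ = x⁻¹) : x = 1 := by
  have hxt' : ∀ a, x (t a) = t (x a) := fun a => DFunLike.congr_fun hxt a
  have hfx' : ∀ a, x (f (x a)) = f a := by
    intro a
    have e := DFunLike.congr_fun (show x * (f * x) = f by
      rw [show f * x = x⁻¹ * f by rw [← hfx]; group]; group) a
    exact e
  have hτ : ∀ a, x (t a * a) = t a * a := by
    intro a
    refine fix_of_sq_fix hn hx ?_
    have e : x (t a * a) = t (x a) * x a := by rw [map_mul, hxt']
    calc x (x (t a * a)) = x (f (x (t a * a))) := by rw [e, d.h1]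
      _ = f (t a * a) := hfx' _
      _ = t a * a := d.h1 a
  have hC : ∀ c, t c = c → x c = c := by
    intro c hcc
    obtain ⟨a₁, h₁⟩ := d.h2 (x c) (by rw [← hxt', hcc])
    obtain ⟨a₂, h₂⟩ := d.h2 c hcc
    have hy : ((x ^ 2) ^ n : MulAut V) = 1 := by rw [← pow_mul, mul_comm, pow_mul, hx, one_pow]
    have hap : ∀ v, (x ^ 2) v = x (x v) := fun v => by rw [pow_two]; rfl
    have key : x (x c) * c = (t a₂ * a₂) * (t a₁ * a₁) := by
      have e1 : x (t a₁ * a₁) = f c * x (x c) := by rw [h₁, map_mul, hfx']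
      rw [hτ] at e1
      rw [e1, h₂, mul_cancel_mid hc hsq, hc]
    have h4 : x (x c) = c := by
      have := fix_of_mul_fix hc hsq hn hy (a := c) (by
        rw [hap c, key, hap, map_mul, map_mul, hτ, hτ, hτ, hτ])
      rwa [hap] at this
    exact fix_of_sq_fix hn hx h4
  ext a
  exact fix_of_mul_fix hc hsq hn hx (hC _ (map_eq_of_image_fix hc hsq hxt' (hτ a)))

/-- An automorphism of odd order commuting with a four group is trivial. -/
theorem FourData.trivial {t u x : MulAut V} (d : FourData t u) {n : ℕ} (hn : Odd n) (hx : x ^ n = 1)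
    (hxt : x * t = t * x) (hxu : x * u = u * x) : x = 1 := by
  have hxt' : ∀ a, x (t a) = t (x a) := fun a => DFunLike.congr_fun hxt a
  have hxu' : ∀ a, x (u a) = u (x a) := fun a => DFunLike.congr_fun hxu a
  have hmap : ∀ w : MulAut V, (w = t ∨ w = u ∨ w = t * u) → ∀ c, InT w c → InT w (x c) := by
    rintro w hw c ⟨a, rfl⟩
    refine ⟨x a, ?_⟩
    rw [map_mul]
    rcases hw with rfl | rfl | rfl
    · rw [hxt']
    · rw [hxu']
    · simp only [MulAut.mul_apply]; rw [hxt', hxu']
  obtain ⟨i0, hi0, ht, hu, htu, h12, _, hP⟩ := d.hI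
  have hxi : x i0 = i0 := by
    rcases h12 _ (hmap t (.inl rfl) _ ht) (hmap u (.inr (.inl rfl)) _ hu) with e | e
    · exact absurd ((MulEquiv.map_eq_one_iff x).1 e) hi0
    · exact e
  have hCE : ∀ c, t c = c → u c = c → x c = c := by
    intro c h1 h2
    rcases hP c h1 h2 with rfl | rfl | ⟨w, hw, hwc, hd⟩
    · exact map_one x
    · exact hxi
    rcases hd _ (hmap w hw _ hwc) with e | e | e | e
    · rw [(MulEquiv.map_eq_one_iff x).1 e, map_one]
    · rw [x.injective (e.trans hxi.symm), hxi]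
    · exact e
    · exact fix_of_sq_fix hn hx (by rw [e, map_mul, e, hxi, mul_assoc, hsq, mul_one])
  have hTt : ∀ a, x (t a * a) = t a * a := fun a =>
    hCE _ (by rw [map_mul, d.ht, hc]) (d.hT1 a)
  have hTu : ∀ a, x (u a * a) = u a * a := fun a =>
    hCE _ (d.hT2 a) (by rw [map_mul, d.hu, hc])
  ext a
  exact fix_of_mul_fix hc hsq hn hx
    (hCE _ (map_eq_of_image_fix hc hsq hxt' (hTt a)) (map_eq_of_image_fix hc hsq hxu' (hTu a)))

/-- An element of order three permuting a four group fixes exactly four elements. -/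
theorem FourData.card_fix [Finite V] (hV : Nat.card V = 64) {t u x : MulAut V} (d : FourData t u)
    (hx : x ^ 3 = 1) (hxt : x * t = u * x) (hxu : x * u = t * u * x) :
    Nat.card {a : V // x a = a} = 4 := by
  classical
  have h1 : ∀ a, x (t a) = u (x a) := fun a => DFunLike.congr_fun hxt a
  have h2 : ∀ a, x (u a) = t (u (x a)) := fun a => DFunLike.congr_fun hxu a
  have h3 : ∀ a, x (t (u a)) = t (x a) := fun a => by
    rw [h1, h2, ← d.htu, d.hu]
  have m1 : ∀ c, InT t c → InT u (x c) := by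
    rintro c ⟨a, rfl⟩; exact ⟨x a, by rw [map_mul, h1]⟩
  have m2 : ∀ c, InT u c → InT (t * u) (x c) := by
    rintro c ⟨a, rfl⟩; exact ⟨x a, by rw [map_mul, h2]; rfl⟩
  have m3 : ∀ c, InT (t * u) c → InT t (x c) := by
    rintro c ⟨a, rfl⟩; exact ⟨x a, by rw [map_mul, MulAut.mul_apply, h3]⟩
  obtain ⟨i0, hi0, ht, hu, -, h12, h23, hP⟩ := d.hI
  have hxi : x i0 = i0 := by
    rcases h23 _ (m1 _ ht) (m2 _ hu) with e | e
    · exact absurd ((MulEquiv.map_eq_one_iff x).1 e) hi0
    · exact e
  have hU : ∀ a, x a = a → (t a = a ∨ u a = a ∨ t (u a) = a) → a = 1 ∨ a = i0 := by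
    intro a ha h
    have g1 : t a = a → u a = a := fun e => by have := h1 a; rwa [e, ha, eq_comm] at this
    have g2 : u a = a → t (u a) = a := fun e => by have := h2 a; (rw [e, ha] at this; rw [e]; first | exact this.symm | (rw [e] at this; exact this.symm))
    have g3 : t (u a) = a → t a = a := fun e => by have := h3 a; rwa [e, ha, eq_comm] at this
    obtain ⟨et, eu⟩ : t a = a ∧ u a = a := by
      rcases h with e | e | e
      · exact ⟨e, g1 e⟩
      · exact ⟨g3 (g2 e), e⟩
      · exact ⟨g3 e, g1 (g3 e)⟩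
    rcases hP a et eu with e | e | ⟨w, hw, hwc, -⟩
    · exact .inl e
    · exact .inr e
    have k1 : InT t a → InT u a := fun h => ha ▸ m1 a h
    have k2 : InT u a → InT (t * u) a := fun h => ha ▸ m2 a h
    have k3 : InT (t * u) a → InT t a := fun h => ha ▸ m3 a h
    rcases hw with rfl | rfl | rfl
    · exact h12 a hwc (k1 hwc)
    · exact h12 a (k3 (k2 hwc)) hwc
    · exact h12 a (k3 hwc) (k1 (k3 hwc))
  have hle : Nat.card {a : V // x a = a} ≤ 4 := by
    obtain ⟨F, hF, hcard⟩ : ∃ F : Finset V, (∀ b, x b = b → b ∈ F) ∧ F.card ≤ 4 := by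
      by_cases hall : ∀ a, x a = a → a = 1 ∨ a = i0
      · exact ⟨{1, i0}, fun b hb => by simpa using hall b hb,
          Finset.card_le_two.trans (by norm_num)⟩
      · push Not at hall
        obtain ⟨a, ha, ha1, hai⟩ := hall
        refine ⟨{1, i0, a, a * i0}, fun b hb => ?_, Finset.card_le_four⟩
        by_cases hb' : b = 1 ∨ b = i0
        · rcases hb' with rfl | rfl <;> simp
        have na : ∀ c, x c = c → ¬(c = 1 ∨ c = i0) → t c ≠ c ∧ u c ≠ c ∧ (t * u) c ≠ c :=
          fun c hc' hn' => ⟨fun e => hn' (hU c hc' (.inl e)), fun e => hn' (hU c hc' (.inr (.inl e))),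
            fun e => hn' (hU c hc' (.inr (.inr e)))⟩
        obtain ⟨p1, p2, p3⟩ := na a ha (by tauto)
        obtain ⟨q1, q2, q3⟩ := na b hb hb'
        have := hU (a * b) (by rw [map_mul, ha, hb]) (d.hidx a b p1 p2 p3 q1 q2 q3)
        rcases this with e | e
        · have : b = a := by rw [eq_mul_of_mul_eq hc hsq ((hc b a).trans e), one_mul]
          simp [this]
        · have : b = a * i0 := by rw [eq_mul_of_mul_eq hc hsq ((hc b a).trans e), hc]
          simp [this]
    refine le_trans (Nat.card_le_card_of_injective (β := {v // v ∈ F})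
      (fun b => ⟨b.1, hF b.1 b.2⟩) (fun b c e => Subtype.ext (congrArg Subtype.val e :))) ?_
    rwa [Nat.card_eq_fintype_card, Fintype.card_coe]
  have hge : 2 ≤ Nat.card {a : V // x a = a} :=
    Finite.one_lt_card_iff_nontrivial.2 ⟨⟨⟨1, map_one x⟩, ⟨i0, hxi⟩, fun e => hi0 (congrArg Subtype.val e).symm⟩⟩
  haveI : Fact (Nat.Prime 3) := ⟨Nat.prime_three⟩
  have hP3 : IsPGroup 3 (Subgroup.zpowers x) := by
    rcases (Nat.dvd_prime Nat.prime_three).1 (orderOf_dvd_of_pow_eq_one hx) with e | e
    · exact IsPGroup.of_card (n := 0) (by rw [Nat.card_zpowers, e]; rfl)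
    · exact IsPGroup.of_card (n := 1) (by rw [Nat.card_zpowers, e]; rfl)
  have hfp : Nat.card (MulAction.fixedPoints (Subgroup.zpowers x) V) = Nat.card {a : V // x a = a} := by
    refine Nat.card_congr (Equiv.subtypeEquivRight fun a => ?_)
    constructor
    · exact fun h => h ⟨x, Subgroup.mem_zpowers x⟩
    · rintro h ⟨y, hy⟩
      obtain ⟨i, rfl⟩ := Subgroup.mem_zpowers_iff.1 hy
      have : x ∈ MulAction.stabilizer (MulAut V) a := h
      exact zpow_mem this i
  have hmod := hP3.card_modEq_card_fixedPoints V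
  rw [hV, hfp, Nat.ModEq] at hmod
  omega

end

end CfsgLib.MModel24
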