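import Cfsg.Agent.MModel24.AutoLemmas
import Mathlib.GroupTheory.SpecificGroups.Dihedral

/-!
# The automizer seen abstractly
-/

set_option autoImplicit false

namespace CfsgLib.MModel24

/-- What the model says about the group of automorphisms induced on the abelian subgroup. -/
structure Loc {V : Type*} [Group V] (X : Subgroup (MulAut V)) : Prop where
  comm : ∀ a b : V, a * b = b * a
  sq : ∀ a : V, a * a = 1
  card : Nat.card V = 64
  sylow : ∃ P : Sylow 2 X, Nonempty (↥(P : Subgroup X) ≃* DihedralGroup 4)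
  key : ∀ t ∈ X, ∀ f ∈ X, t ≠ 1 → t * t = 1 → t * f = f * t → (∃ j : ℕ, f ^ 2 ^ j = 1) → KeyData t f
  four : ∀ t ∈ X, ∀ u ∈ X, t ≠ 1 → u ≠ 1 → t ≠ u → t * t = 1 → u * u = 1 → t * u = u * t → FourData t u
  z16 : ∃ z ∈ X, z ≠ 1 ∧ z * z = 1 ∧ 16 ≤ Nat.card {a : V // z a = a}
  common : ∃ (P : Sylow 2 X) (t₁ t₂ z : X), t₁ ∈ (P : Subgroup X) ∧ t₂ ∈ (P : Subgroup X) ∧
    z ∈ (P : Subgroup X) ∧ (∀ p ∈ (P : Subgroup X), p * z = z * p) ∧
    (∃ p ∈ (P : Subgroup X), p * t₁ ≠ t₁ * p) ∧ (∃ p ∈ (P : Subgroup X), p * t₂ ≠ t₂ * p) ∧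
    t₁ * t₁ = 1 ∧ t₂ * t₂ = 1 ∧ z * z = 1 ∧ z ≠ 1 ∧
    ∀ c, InT (t₁ : MulAut V) c → InT (t₂ : MulAut V) c → InT (z : MulAut V) c → c = 1

variable {V : Type*} [Group V]

theorem KeyData.conj {t f y : MulAut V} (d : KeyData (y * t * y⁻¹) (y * f * y⁻¹)) : KeyData t f := by
  constructor
  · intro a
    have := d.h1 (y a)
    simp only [MulAut.mul_apply, MulAut.inv_apply, MulEquiv.symm_apply_apply] at this
    rw [← map_mul, MulEquiv.symm_apply_apply] at this
    exact y.injective this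
  · intro c hc
    obtain ⟨b, hb⟩ := d.h2 (y c) (by simp [hc])
    refine ⟨y.symm b, y.injective ?_⟩
    simp only [MulAut.mul_apply, MulAut.inv_apply, MulEquiv.symm_apply_apply] at hb
    rw [map_mul, MulEquiv.apply_symm_apply, hb, map_mul]

theorem InT.conj_iff {w y : MulAut V} {c : V} : InT (y * w * y⁻¹) (y c) ↔ InT w c := by
  constructor
  · rintro ⟨a, ha⟩
    refine ⟨y.symm a, y.injective ?_⟩
    simp only [MulAut.mul_apply, MulAut.inv_apply] at ha
    rw [map_mul, MulEquiv.apply_symm_apply, ha]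
  · rintro ⟨a, rfl⟩
    exact ⟨y a, by simp⟩

theorem FourData.conj {t u y : MulAut V} (d : FourData (y * t * y⁻¹) (y * u * y⁻¹)) : FourData t u := by
  have hm : ∀ (w : MulAut V) (a : V), (y * w * y⁻¹) (y a) = y (w a) := by intro w a; simp
  have hp : y * (t * u) * y⁻¹ = y * t * y⁻¹ * (y * u * y⁻¹) := by group
  have hf : ∀ (w : MulAut V) (a : V), (y * w * y⁻¹) (y a) = y a ↔ w a = a := fun w a => by
    rw [hm]; exact y.injective.eq_iff
  refine ⟨fun a => y.injective ?_, fun a => y.injective ?_, fun a => y.injective ?_, fun a => y.injective ?_,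
    fun a => y.injective ?_, ?_, ?_⟩
  · rw [← hm, ← hm, d.ht]
  · rw [← hm, ← hm, d.hu]
  · rw [← hm, ← hm, ← hm, ← hm, d.htu]
  · rw [← hm, map_mul, ← hm, d.hT1]
  · rw [← hm, map_mul, ← hm, d.hT2]
  · obtain ⟨i, hi, a1, a2, a3, b1, b2, b3⟩ := d.hI
    obtain ⟨i, rfl⟩ := y.surjective i
    rw [← hp] at a3 b2 b3
    rw [InT.conj_iff] at a1 a2 a3
    refine ⟨i, fun e => hi (by rw [e, map_one]), a1, a2, a3, fun c h1 h2 => ?_, fun c h1 h2 => ?_,
      fun c h1 h2 => ?_⟩
    · exact (b1 (y c) (InT.conj_iff.2 h1) (InT.conj_iff.2 h2)).imp (MulEquiv.map_eq_one_iff y).1 (y.injective ·)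
    · exact (b2 (y c) (InT.conj_iff.2 h1) (InT.conj_iff.2 h2)).imp (MulEquiv.map_eq_one_iff y).1 (y.injective ·)
    · rcases b3 (y c) ((hf t c).2 h1) ((hf u c).2 h2) with e | e | ⟨w, hw, hwc, hd⟩
      · exact .inl ((MulEquiv.map_eq_one_iff y).1 e)
      · exact .inr (.inl (y.injective e))
      · obtain ⟨w', rfl⟩ : ∃ w', w = y * w' * y⁻¹ := ⟨y⁻¹ * w * y, by group⟩
        refine .inr (.inr ⟨w', ?_, InT.conj_iff.1 hwc, fun d' hd' => ?_⟩)
        · rcases hw with e | e | e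
          · exact .inl (mul_left_cancel (mul_right_cancel e))
          · exact .inr (.inl (mul_left_cancel (mul_right_cancel e)))
          · exact .inr (.inr (mul_left_cancel (mul_right_cancel e)))
        · rcases hd (y d') (InT.conj_iff.2 hd') with e | e | e | e
          · exact .inl ((MulEquiv.map_eq_one_iff y).1 e)
          · exact .inr (.inl (y.injective e))
          · exact .inr (.inr (.inl (y.injective e)))
          · exact .inr (.inr (.inr (y.injective (e.trans (map_mul y c i).symm))))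
  · intro a b h1 h2 h3 h4 h5 h6
    have := d.hidx (y a) (y b) (fun e => h1 ((hf _ _).1 e)) (fun e => h2 ((hf _ _).1 e))
      (fun e => h3 ((hf _ _).1 (by rwa [hp]))) (fun e => h4 ((hf _ _).1 e)) (fun e => h5 ((hf _ _).1 e))
      (fun e => h6 ((hf _ _).1 (by rwa [hp])))
    rw [← map_mul, ← hp] at this
    exact this.imp (hf _ _).1 (Or.imp (hf _ _).1 (hf _ _).1)

end CfsgLib.MModel24
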