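import Cfsg.Agent.MModel24.Arith
import Mathlib.GroupTheory.SpecificGroups.Dihedral
import Mathlib.Tactic.FinCases

/-!
# Kernel checks: the dihedral group acting on the vectors
-/

set_option autoImplicit false
set_option maxRecDepth 100000

namespace CfsgLib.MModel24

/-- The action of the element `e` on the vector `v` by conjugation. -/
def al (e v : Nat) : Nat := Nat.div (conj e (Nat.mul (nat_lit 8) v)) (nat_lit 8)

/-- The mask of the commutators with `e`. -/
def imMask (e : Nat) : Nat := mask ((List.range 64).map fun a => al e a ^^^ a)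

/-- The common fixed commutator of a four group. -/
def i0 (t u : Nat) : Nat := if t = 1 ∨ t = 5 ∨ u = 1 ∨ u = 5 then 4 else 32

/-- An involution and a commuting element. -/
def keyOK (t f : Nat) : Bool :=
  let T := imMask t
  (List.range 64).all fun a =>
    Nat.beq (al f (al t a ^^^ a)) (al t a ^^^ a) && (!Nat.beq (al t a) a || tb T (al f a ^^^ a))

/-- A four group. -/
def fourOK (t u i : Nat) : Bool :=
  let R := List.range 64
  let w := mulD t u
  let T := imMask t
  let U := imMask u
  let W := imMask w
  (R.all fun a => Nat.beq (al t (al t a)) a && Nat.beq (al u (al u a)) a &&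
    Nat.beq (al t (al u a)) (al u (al t a)) && Nat.beq (al u (al t a ^^^ a)) (al t a ^^^ a) &&
    Nat.beq (al t (al u a ^^^ a)) (al u a ^^^ a)) &&
  (!Nat.beq i 0 && Nat.blt i 64 && tb T i && tb U i && tb W i) &&
  (R.all fun c => (!(tb T c && tb U c) || Nat.beq c 0 || Nat.beq c i) &&
    (!(tb U c && tb W c) || Nat.beq c 0 || Nat.beq c i)) &&
  (R.all fun c => !(Nat.beq (al t c) c && Nat.beq (al u c) c) || Nat.beq c 0 || Nat.beq c i ||
    [t, u, w].any fun x => let M := imMask x; tb M c && R.all fun d =>
      !tb M d || Nat.beq d 0 || Nat.beq d i || Nat.beq d c || Nat.beq d (c ^^^ i)) &&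
  (let out := R.filter fun a => !(Nat.beq (al t a) a || Nat.beq (al u a) a || Nat.beq (al w a) a)
   out.all fun a => out.all fun b => let c := a ^^^ b;
    Nat.beq (al t c) c || Nat.beq (al u c) c || Nat.beq (al w c) c)

/-- The label of an element of the dihedral group. -/
def num : DihedralGroup 4 → Nat
  | .r i => [0, 3, 4, 7].getD i.val 0
  | .sr i => [1, 2, 5, 6].getD i.val 0

theorem num_mul : ∀ x y : DihedralGroup 4, mulD (num x) (num y) = num (x * y) := by decide +kernel

theorem num_inj : ∀ x y : DihedralGroup 4, num x = num y → x = y := by decide +kernel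

theorem num_lt : ∀ x : DihedralGroup 4, num x < 8 := by decide +kernel

theorem num_surj : ∀ e < 8, ∃ x : DihedralGroup 4, num x = e := by decide +kernel

theorem al_mul_ok : ∀ e < 8, ∀ v < 64, conj e (8 * v) = 8 * al e v ∧ al e v < 64 := by decide +kernel

theorem keyOK_ok : ∀ t < 8, ∀ f < 8, t ≠ 0 → mulD t t = 0 → mulD t f = mulD f t → keyOK t f = true := by
  decide +kernel

theorem fourOK_all : ((List.range 8).all fun t => (List.range 8).all fun u =>
    Nat.beq t 0 || Nat.beq u 0 || Nat.beq t u || !Nat.beq (mulD t t) 0 || !Nat.beq (mulD u u) 0 ||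
      !Nat.beq (mulD t u) (mulD u t) || fourOK t u (i0 t u)) = true := by
  set_option maxHeartbeats 0 in decide +kernel

theorem fourOK_ok {t u : Nat} (ht : t < 8) (hu : u < 8) (h1 : t ≠ 0) (h2 : u ≠ 0) (h3 : t ≠ u)
    (h4 : mulD t t = 0) (h5 : mulD u u = 0) (h6 : mulD t u = mulD u t) : fourOK t u (i0 t u) = true := by
  have := List.all_eq_true.1 (List.all_eq_true.1 fourOK_all t (List.mem_range.2 ht)) u (List.mem_range.2 hu)
  have nb : ∀ {a b : Nat}, a ≠ b → Nat.beq a b = false := fun h => by
    cases hb : Nat.beq _ _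
    · rfl
    · exact absurd (Nat.eq_of_beq_eq_true hb) h
  rw [nb h1, nb h2, nb h3, h4, h5, h6] at this
  simpa using this

theorem fix_z : Nat.ble 16 ((List.range 64).filter fun v => Nat.beq (al 4 v) v).length = true := by
  decide +kernel

theorem common_ok : ((List.range 64).all fun c =>
    !(tb (imMask 1) c && tb (imMask 2) c && tb (imMask 4) c) || Nat.beq c 0) = true := by
  decide +kernel

end CfsgLib.MModel24
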