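import Cfsg.Agent.MModel24.Arith
import Cfsg.Agent.Inv53.M24Defs

/-!
# The arithmetic model agrees with the model of the Sylow 2-subgroup of M24 modulo its centre
-/

set_option autoImplicit false
set_option maxRecDepth 100000

namespace CfsgLib.MModel24

open CfsgLib.Inv53.M24Data

theorem mulD_eq : ∀ d < 8, ∀ e < 8, mulN d e % 512 = mulD d e := by decide +kernel

theorem vec_mul : ∀ v < 64, ∀ w < 64, mulN (8 * v) (8 * w) % 512 = 8 * (v ^^^ w) := by
  set_option maxHeartbeats 0 in decide +kernel

theorem vec_move : ∀ e < 8, ∀ v < 64, mulN (8 * v) e % 512 = mulN e (8 * act e v) % 512 := by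
  decide +kernel

theorem mul_split : ∀ d < 8, ∀ v < 64, mul d (8 * v) = d + 8 * v := by decide +kernel

theorem mul_vec : ∀ v < 64, ∀ w < 64, mul (8 * v) (8 * w) = 8 * (v ^^^ w) := by
  set_option maxHeartbeats 0 in decide +kernel

theorem self_ok : ((List.range 512).all fun n => Nat.beq (n % 8) 0 ||
    [8, 16, 32, 64, 128, 256].any fun v => !Nat.beq (mul n v) (mul v n)) = true := by
  decide +kernel

theorem conj_vec : ((List.range 512).all fun g => [8, 16, 32, 64, 128, 256].all fun v =>
    Nat.beq (conj g v % 8) 0) = true := by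
  decide +kernel

end CfsgLib.MModel24
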