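import Cfsg.Agent.MModel24.Model
import Cfsg.Agent.MModel24.Arith

/-!
# The abelian subgroup of order 64 is strongly closed
-/

set_option autoImplicit false
set_option linter.style.haveILetI false
set_option linter.unusedSectionVars false

namespace CfsgLib.MModel24

open Subgroup
open scoped Pointwise

theorem testBit_foldl : ∀ (L : List ℕ) (k x : ℕ),
    Nat.testBit (L.foldl (fun m y => m ||| (1 <<< y)) k) x = (Nat.testBit k x || decide (x ∈ L))
  | [], k, x => by simp
  | y :: L, k, x => by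
    rw [List.foldl_cons, testBit_foldl L, Nat.testBit_or, Nat.one_shiftLeft, Nat.testBit_two_pow]
    by_cases h : y = x
    · subst h; simp
    · simp [h, Ne.symm h]

theorem testBit_mask (L : List ℕ) (x : ℕ) : Nat.testBit (mask L) x = decide (x ∈ L) := by
  rw [mask, testBit_foldl, Nat.zero_testBit, Bool.false_or]

theorem mask_eq_iff {L L' : List ℕ} : mask L = mask L' ↔ ∀ x, x ∈ L ↔ x ∈ L' := by
  constructor
  · intro e x
    have := congrArg (fun k => Nat.testBit k x) e
    simpa [testBit_mask] using this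
  · intro e
    exact Nat.eq_of_testBit_eq fun x => by simp [testBit_mask, e x]

theorem tb_eq (m x : ℕ) : tb m x = Nat.testBit m x := by
  rw [Bool.eq_iff_iff, tb, Nat.beq_eq, Nat.testBit]
  show (1 &&& (m >>> x)) = 1 ↔ _
  rw [bne_iff_ne, Nat.one_and_eq_mod_two]
  omega

theorem keyed_eq (L : List ℕ) : keyed L = (mask L, L) := by
  unfold keyed; split <;> simp [*]

theorem mem_dedupK : ∀ (R : List (ℕ × List ℕ)) (p : ℕ × List ℕ), p ∈ R → ∃ q ∈ dedupK R, q.1 = p.1
  | [], _, h => by simp at h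
  | K :: R, p, h => by
    rw [dedupK]
    rcases List.mem_cons.1 h with rfl | h
    · cases hc : (dedupK R).any fun q => Nat.beq q.1 p.1
      · exact ⟨p, List.mem_cons_self, rfl⟩
      · obtain ⟨q, hq, e⟩ := List.any_eq_true.1 hc
        exact ⟨q, hq, Nat.eq_of_beq_eq_true e⟩
    · obtain ⟨q, hq, e⟩ := mem_dedupK R p h
      cases hc : (dedupK R).any fun q => Nat.beq q.1 K.1
      · exact ⟨q, List.mem_cons_of_mem _ hq, e⟩
      · exact ⟨q, hq, e⟩

theorem subset_dedupK : ∀ (R : List (ℕ × List ℕ)) (p : ℕ × List ℕ), p ∈ dedupK R → p ∈ R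
  | [], _, h => h
  | K :: R, p, h => by
    rw [dedupK] at h
    cases hc : (dedupK R).any (fun q => Nat.beq q.1 K.1)
    · simp only [hc] at h
      rcases List.mem_cons.1 h with rfl | h
      · exact List.mem_cons_self
      · exact List.mem_cons_of_mem _ (subset_dedupK R p h)
    · simp only [hc] at h; exact List.mem_cons_of_mem _ (subset_dedupK R p h)

theorem mem_dedup (R : List (List ℕ)) (L : List ℕ) (h : L ∈ R) :
    ∃ L' ∈ dedup R, mask L' = mask L := by
  obtain ⟨q, hq, e⟩ := mem_dedupK _ (keyed L) (List.mem_map.2 ⟨L, h, rfl⟩)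
  obtain ⟨L', _, rfl⟩ := List.mem_map.1 (subset_dedupK _ _ hq)
  refine ⟨L', List.mem_map.2 ⟨keyed L', hq, by rw [keyed_eq]⟩, ?_⟩
  simpa [keyed_eq] using e

theorem subset_dedup (R : List (List ℕ)) (L : List ℕ) (h : L ∈ dedup R) : L ∈ R := by
  obtain ⟨q, hq, rfl⟩ := List.mem_map.1 h
  obtain ⟨L', hL', rfl⟩ := List.mem_map.1 (subset_dedupK _ _ hq)
  rwa [keyed_eq]

theorem picks_subset {L : List ℕ} {x : ℕ} (h : x ∈ picks L) : x ∈ L := by
  obtain ⟨i, -, e⟩ := List.mem_filterMap.1 h
  exact List.mem_of_getElem? e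

theorem testList_subset {L : List ℕ} {x : ℕ} (h : x ∈ testList L) : x ∈ L := by
  unfold testList at h
  split at h
  · exact picks_subset h
  · exact h

variable {G : Type*} [Group G] [Finite G] {S : Sylow 2 G} {A : Subgroup G} (m : Model S A)
include m

/-- The list `L` enumerates the subgroup `D`. -/
def Model.Lists (L : List ℕ) (D : Subgroup G) : Prop :=
  (∀ x ∈ L, x < 512) ∧ D ≤ (S : Subgroup G) ∧ ∀ x < 512, (x ∈ L ↔ m.F x ∈ D)

theorem Model.Lists.card_le {L : List ℕ} {D : Subgroup G} (hL : m.Lists L D) :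
    Nat.card D ≤ L.length := by
  classical
  obtain ⟨hlt, hDS, hiff⟩ := hL
  let f : {x // x ∈ L.toFinset} → D := fun x =>
    ⟨m.F x.1, (hiff _ (hlt _ (List.mem_toFinset.1 x.2))).1 (List.mem_toFinset.1 x.2)⟩
  have hf : Function.Surjective f := fun d => by
    obtain ⟨n, hn, e⟩ := m.surj _ (hDS d.2)
    exact ⟨⟨n, List.mem_toFinset.2 ((hiff n hn).2 (e ▸ d.2))⟩, Subtype.ext e⟩
  refine (Nat.card_le_card_of_surjective f hf).trans ?_
  rw [Nat.card_eq_fintype_card, Fintype.card_coe]
  exact List.toFinset_card_le L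

theorem Model.mem_normList {L : List ℕ} {D : Subgroup G} (hL : m.Lists L D) {g : ℕ} (hg : g < 512) :
    g ∈ normList L ↔ m.F g ∈ normalizer (D : Set G) := by
  obtain ⟨hlt, hDS, hiff⟩ := hL
  simp only [normList, List.mem_filter, List.mem_range, hg, true_and, List.all_eq_true, tb_eq,
    testBit_mask, decide_eq_true_eq]
  constructor
  · intro h
    have hall : ∀ x ∈ L, m.F g * m.F x * (m.F g)⁻¹ ∈ D := by
      have hone : ∀ x ∈ testList L, x < 512 ∧ m.F g * m.F x * (m.F g)⁻¹ ∈ D := fun x hx => by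
        have hx5 := hlt x (testList_subset hx)
        exact ⟨hx5, m.map_conj hg hx5 ▸ (hiff _ (conj_lt hg hx5)).1 (h x hx)⟩
      cases hb : Nat.beq (mask (span (picks L))) (mask L)
      · simp only [testList, hb] at hone
        exact fun x hx => (hone x hx).2
      simp only [testList, hb] at hone
      have key : ∀ K : List ℕ, (∀ x ∈ K, x < 512 ∧ m.F g * m.F x * (m.F g)⁻¹ ∈ D) →
          ∀ y ∈ span K, y < 512 ∧ m.F g * m.F y * (m.F g)⁻¹ ∈ D := by
        intro K
        induction K with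
        | nil =>
          intro _ y hy
          rw [span, List.mem_singleton] at hy
          subst hy
          exact ⟨by norm_num, by rw [m.map_zero, mul_one, mul_inv_cancel]; exact one_mem _⟩
        | cons a K ih =>
          intro hK y hy
          have hK' := ih fun x hx => hK x (List.mem_cons_of_mem _ hx)
          rw [span] at hy
          rcases List.mem_append.1 hy with hy | hy
          · exact hK' y hy
          obtain ⟨z, hz, rfl⟩ := List.mem_map.1 hy
          obtain ⟨ha, ha'⟩ := hK a List.mem_cons_self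
          obtain ⟨hz5, hz'⟩ := hK' z hz
          refine ⟨mul_lt ha hz5, ?_⟩
          rw [← m.hmul a ha z hz5, show m.F g * (m.F a * m.F z) * (m.F g)⁻¹ =
            m.F g * m.F a * (m.F g)⁻¹ * (m.F g * m.F z * (m.F g)⁻¹) by group]
          exact mul_mem ha' hz'
      exact fun x hx => (key _ hone x ((mask_eq_iff.1 (Nat.eq_of_beq_eq_true hb) x).2 hx)).2
    rw [mem_normalizer_iff_map_conj_eq]
    refine Subgroup.eq_of_le_of_card_ge ?_ (le_of_eq
      (Nat.card_congr (D.equivMapOfInjective _ (MulAut.conj (m.F g)).injective).toEquiv))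
    rintro _ ⟨x, hx, rfl⟩
    obtain ⟨n, hn, rfl⟩ := m.surj x (hDS hx)
    exact hall n ((hiff n hn).2 hx)
  · intro h x hx
    have hx5 := hlt x (testList_subset hx)
    refine (hiff _ (conj_lt hg hx5)).2 ?_
    rw [m.map_conj hg hx5]
    exact (mem_normalizer_iff.1 h _).1 ((hiff x hx5).1 (testList_subset hx))

omit m in
theorem normList_lt (L : List ℕ) : ∀ g ∈ normList L, g < 512 := fun _ hg =>
  List.mem_range.1 (List.mem_filter.1 hg).1

omit m in
theorem normList_nodup (L : List ℕ) : (normList L).Nodup := List.nodup_range.filter _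

/-- Completeness of the levels. -/
theorem Model.levels_complete {Gl cand : List ℕ} {P D : Subgroup G}
    (hGl : ∀ g ∈ Gl, g < 512 ∧ m.F g ∈ P) (hP : IsPGroup 2 P) (hDP : D ≤ P)
    (hDn : P ≤ normalizer (D : Set G)) (hDS : D ≤ (S : Subgroup G))
    (hDc : ∀ a ∈ D, ∀ b ∈ D, a * b = b * a) (hDsq : ∀ a ∈ D, a * a = 1)
    (hcand : ∀ n < 512, m.F n ∈ D → n ∈ cand) :
    ∀ (k : ℕ) (lvl : List (List ℕ)) (L : List ℕ) (X : Subgroup G), L ∈ lvl → m.Lists L X → X ≤ D →
      P ≤ normalizer (X : Set G) → 512 < 2 ^ k * Nat.card X →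
      ∃ L' ∈ levels Gl cand k lvl, m.Lists L' D := by
  classical
  haveI : Fact (Nat.Prime 2) := ⟨Nat.prime_two⟩
  intro k
  induction k with
  | zero =>
    intro lvl L X hL hLX hXD _ hlen
    exfalso
    have h1 := Nat.card_le_card_of_surjective (fun n : Fin 512 => (⟨m.F n, m.mem n n.2⟩ : (S : Subgroup G)))
      (fun ⟨x, hx⟩ => by
        obtain ⟨n, hn, e⟩ := m.surj x hx
        exact ⟨⟨n, hn⟩, Subtype.ext e⟩)
    rw [Nat.card_fin] at h1
    have h2 := Subgroup.card_le_of_le hLX.2.1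
    omega
  | succ k ih =>
    intro lvl L X hL hLX hXD hXn hlen
    rw [levels]
    by_cases e : X = D
    · exact ⟨L, List.mem_append_left _ hL, e ▸ hLX⟩
    -- a fixed point of `P` on `D / X`
    obtain ⟨a, haD, haX, hfix⟩ : ∃ a ∈ D, a ∉ X ∧ ∀ g ∈ P, g * a * g⁻¹ * a ∈ X := by
      let Y := X.subgroupOf D
      haveI : Y.Normal := ⟨fun y hy d => mem_subgroupOf.2 (by
        rw [Subgroup.coe_mul, Subgroup.coe_mul, Subgroup.coe_inv, hDc _ d.2 _ y.2, mul_inv_cancel_right]
        exact mem_subgroupOf.1 hy)⟩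
      letI : MulAction P (↥D ⧸ Y) :=
        { smul := fun g q => Quotient.liftOn' q
            (fun d => QuotientGroup.mk ⟨(g : G) * d * (g : G)⁻¹, (mem_normalizer_iff.1 (hDn g.2) _).1 d.2⟩)
            (fun d d' hdd => by
              have h := mem_subgroupOf.1 (QuotientGroup.leftRel_apply.1 hdd)
              refine QuotientGroup.eq.2 (mem_subgroupOf.2 ?_)
              show ((g : G) * d * (g : G)⁻¹)⁻¹ * ((g : G) * d' * (g : G)⁻¹) ∈ X
              rw [show ((g : G) * d * (g : G)⁻¹)⁻¹ * ((g : G) * d' * (g : G)⁻¹) =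
                (g : G) * ((d : G)⁻¹ * d') * (g : G)⁻¹ by group]
              exact (mem_normalizer_iff.1 (hXn g.2) _).1 h)
          one_smul := fun q => by
            refine Quotient.inductionOn' q fun d => ?_
            show QuotientGroup.mk _ = QuotientGroup.mk d
            exact congrArg _ (Subtype.ext (by simp))
          mul_smul := fun g g' q => by
            refine Quotient.inductionOn' q fun d => ?_
            show QuotientGroup.mk _ = QuotientGroup.mk _
            exact congrArg _ (Subtype.ext (by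
              show (g * g' : P).1 * d.1 * ((g * g' : P).1)⁻¹ = g.1 * (g'.1 * d.1 * g'.1⁻¹) * g.1⁻¹
              rw [Subgroup.coe_mul]; group)) }
      have h1 : ((1 : ↥D ⧸ Y)) ∈ MulAction.fixedPoints P (↥D ⧸ Y) := fun g => by
        show QuotientGroup.mk _ = QuotientGroup.mk 1
        exact congrArg _ (Subtype.ext (by simp))
      have hdvd : 2 ∣ Nat.card (↥D ⧸ Y) := by
        obtain ⟨j, hj⟩ := IsPGroup.iff_card.1 ((hP.to_le hDP).to_quotient Y)
        rcases j with _ | j
        · exfalso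
          rw [pow_zero, ← index_eq_card] at hj
          exact e (le_antisymm hXD (subgroupOf_eq_top.1 (index_eq_one.1 hj)))
        · exact hj ▸ dvd_pow_self 2 (Nat.succ_ne_zero j)
      obtain ⟨q, hq, hq1⟩ := hP.exists_fixed_point_of_prime_dvd_card_of_fixed_point _ hdvd h1
      obtain ⟨a, rfl⟩ := QuotientGroup.mk_surjective q
      refine ⟨a, a.2, fun ha => hq1 ((QuotientGroup.eq_one_iff a).2 (mem_subgroupOf.2 ha)).symm, fun g hg => ?_⟩
      have := mem_subgroupOf.1 (QuotientGroup.eq.1 (hq ⟨g, hg⟩).symm)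
      change (a : G)⁻¹ * (g * a * g⁻¹) ∈ X at this
      rw [inv_eq_of_mul_eq_one_left (hDsq _ a.2)] at this
      have hga : g * a * g⁻¹ ∈ D := (mem_normalizer_iff.1 (hDn hg) _).1 a.2
      rwa [hDc _ a.2 _ hga] at this
    obtain ⟨n, hn, rfl⟩ := m.surj a (hDS haD)
    set L' := L ++ L.map (mul n) with hL'
    have hmem : L' ∈ extend Gl cand L := by
      refine List.mem_map.2 ⟨n, List.mem_filter.2 ⟨hcand n hn haD, ?_⟩, rfl⟩
      simp only [Bool.and_eq_true, Bool.not_eq_true', tb_eq, testBit_mask, Nat.beq_eq, decide_eq_false_iff_not,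
        List.all_eq_true, beq_iff_eq, decide_eq_true_eq]
      refine ⟨⟨fun h => haX ((hLX.2.2 n hn).1 h), fun x hx => ?_⟩, fun g hg => ?_⟩
      · exact (m.comm_iff hn (hLX.1 x hx)).1 (hDc _ haD _ (hXD ((hLX.2.2 x (hLX.1 x hx)).1 hx)))
      · obtain ⟨hg5, hgP⟩ := hGl g hg
        refine (hLX.2.2 _ (mul_lt (conj_lt hg5 hn) hn)).2 ?_
        rw [← m.hmul _ (conj_lt hg5 hn) n hn, m.map_conj hg5 hn]
        exact hfix _ hgP
    obtain ⟨L'', hL'', hmask⟩ := mem_dedup (lvl.flatMap (extend Gl cand)) L'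
      (List.mem_flatMap.2 ⟨L, hL, hmem⟩)
    obtain ⟨L0, hL0, hL0e⟩ := List.mem_flatMap.1 (subset_dedup _ _ hL'')
    -- the enlarged subgroup
    set X' := X ⊔ zpowers (m.F n)
    have hnn : zpowers (m.F n) ≤ normalizer (X : Set G) := zpowers_le.2 (hXn (hDP haD))
    have hX'mem : ∀ x, x ∈ X' ↔ x ∈ X ∨ m.F n * x ∈ X := by
      intro x
      constructor
      · intro hx
        have hx' : x ∈ ((X : Set G) * (zpowers (m.F n) : Set G)) := by
          rw [← coe_mul_of_right_le_normalizer_left X _ hnn]; exact hx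
        obtain ⟨y, hy, z, hz, rfl⟩ := Set.mem_mul.1 hx'
        obtain ⟨i, rfl⟩ := mem_zpowers_iff.1 hz
        have hyn : m.F n * y = y * m.F n := hDc _ haD _ (hXD hy)
        rcases Int.even_or_odd i with ⟨j, rfl⟩ | ⟨j, rfl⟩
        · left
          rw [zpow_add, ← (Commute.refl _).mul_zpow, hDsq _ haD, one_zpow, mul_one]; exact hy
        · right
          rw [zpow_add, two_mul, zpow_add, ← (Commute.refl _).mul_zpow, hDsq _ haD, one_zpow, one_mul,
            zpow_one, ← mul_assoc, hyn, mul_assoc, hDsq _ haD, mul_one]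
          exact hy
      · rintro (hx | hx)
        · exact mem_sup_left hx
        · rw [show x = (m.F n)⁻¹ * (m.F n * x) by group]
          exact mul_mem (mem_sup_right (inv_mem (mem_zpowers _))) (mem_sup_left hx)
    have hLX' : m.Lists L'' X' := by
      refine ⟨?_, sup_le hLX.2.1 (zpowers_le.2 (m.mem n hn)), ?_⟩
      · intro x hx
        rcases List.mem_append.1 ((mask_eq_iff.1 hmask x).1 hx) with h | h
        · exact hLX.1 x h
        · obtain ⟨y, hy, rfl⟩ := List.mem_map.1 h
          exact mul_lt hn (hLX.1 y hy)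
      · intro x hx
        rw [mask_eq_iff.1 hmask x, hX'mem, List.mem_append, hLX.2.2 x hx]
        refine or_congr_right ⟨?_, ?_⟩
        · intro h
          obtain ⟨y, hy, rfl⟩ := List.mem_map.1 h
          rw [← m.hmul n hn y (hLX.1 y hy), ← mul_assoc, hDsq _ haD, one_mul]
          exact (hLX.2.2 y (hLX.1 y hy)).1 hy
        · intro h
          obtain ⟨y, hy, ey⟩ := m.surj _ (hLX.2.1 h)
          refine List.mem_map.2 ⟨y, (hLX.2.2 y hy).2 (ey ▸ h), m.inj _ (mul_lt hn hy) x hx ?_⟩
          rw [← m.hmul n hn y hy, ey, ← mul_assoc, hDsq _ haD, one_mul]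
    have hcard : 2 * Nat.card X ≤ Nat.card X' := by
      obtain ⟨i, hi⟩ := IsPGroup.iff_card.1 (hP.to_le (hXD.trans hDP))
      obtain ⟨j, hj⟩ := IsPGroup.iff_card.1 (hP.to_le (show X' ≤ P from
        sup_le (hXD.trans hDP) (zpowers_le.2 (hDP haD))))
      have hlt : Nat.card X < Nat.card X' := by
        refine lt_of_le_of_ne (Subgroup.card_le_of_le le_sup_left) fun ec => haX ?_
        rw [Subgroup.eq_of_le_of_card_ge (le_sup_left : X ≤ X') ec.ge]
        exact mem_sup_right (mem_zpowers _)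
      rw [hi, hj] at hlt ⊢
      rw [← pow_succ']
      exact Nat.pow_le_pow_right (by norm_num) ((Nat.pow_lt_pow_iff_right (by norm_num)).1 hlt)
    have hX'n : P ≤ normalizer (X' : Set G) := fun g hg => by
      rw [mem_normalizer_iff_map_conj_eq]
      refine Subgroup.eq_of_le_of_card_ge ?_ (le_of_eq
        (Nat.card_congr (X'.equivMapOfInjective _ (MulAut.conj g).injective).toEquiv))
      rw [Subgroup.map_sup, MonoidHom.map_zpowers]
      refine sup_le ?_ (zpowers_le.2 ?_)
      · rintro _ ⟨x, hx, rfl⟩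
        exact mem_sup_left ((mem_normalizer_iff.1 (hXn hg) x).1 hx)
      · show g * m.F n * g⁻¹ ∈ X'
        rw [show g * m.F n * g⁻¹ = g * m.F n * g⁻¹ * m.F n * (m.F n)⁻¹ by group]
        exact mul_mem (mem_sup_left (hfix g hg)) (mem_sup_right (inv_mem (mem_zpowers _)))
    have hlen' : 512 < 2 ^ k * Nat.card X' := by
      calc 512 < 2 ^ (k + 1) * Nat.card X := hlen
        _ = 2 ^ k * (2 * Nat.card X) := by ring
        _ ≤ 2 ^ k * Nat.card X' := Nat.mul_le_mul_left _ hcard
    obtain ⟨L3, hL3, hL3D⟩ := ih (dedup (lvl.flatMap (extend Gl cand))) L'' X' hL'' hLX'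
      (sup_le hXD (zpowers_le.2 haD)) hX'n hlen'
    exact ⟨L3, List.mem_append_right _ hL3, hL3D⟩

/-- A dead list is not conjugate into the abelian group. -/
theorem Model.dead_sound : ∀ (k : ℕ) (L : List ℕ) (X : Subgroup G), dead k L = true → m.Lists L X →
    X ≠ ⊥ → (∀ a ∈ X, ∀ b ∈ X, a * b = b * a) → (∀ a ∈ X, a * a = 1) →
    ∀ g : G, ¬ ∀ x ∈ X, g * x * g⁻¹ ∈ A := by
  classical
  haveI : Fact (Nat.Prime 2) := ⟨Nat.prime_two⟩
  intro k
  induction k with
  | zero => intro L X h; simp [dead] at h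
  | succ k ih =>
    intro L X hdead hL hX1 hXc hXsq g hg
    set N := normalizer (X : Set G)
    set C := centralizer (X : Set G)
    set P := (S : Subgroup G) ⊓ N
    have hXP : X ≤ P := le_inf hL.2.1 Subgroup.le_normalizer
    have hPN : IsPGroup 2 (P.subgroupOf N) :=
      (S.isPGroup'.to_le inf_le_left).comap_of_injective N.subtype N.subtype_injective
    obtain ⟨T, hT⟩ := hPN.exists_le_sylow
    have hCN : C ≤ N := centralizer_le_normalizer _
    -- a Sylow subgroup of the centralizer inside `T`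
    haveI : (C.subgroupOf N).Normal := by
      refine ⟨fun c hc y => mem_subgroupOf.2 (mem_centralizer_iff.2 fun x hx => ?_)⟩
      have := mem_centralizer_iff.1 (mem_subgroupOf.1 hc) ((y : G)⁻¹ * x * y) ((mem_normalizer_iff''.1 y.2 x).1 hx)
      rw [Subgroup.coe_mul, Subgroup.coe_mul, Subgroup.coe_inv]
      calc x * ((y : G) * c * (y : G)⁻¹) = y * ((y : G)⁻¹ * x * y * c) * (y : G)⁻¹ := by group
        _ = y * (c * ((y : G)⁻¹ * x * y)) * (y : G)⁻¹ := by rw [this]
        _ = _ := by group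
    let A' := A.map (MulAut.conj g⁻¹).toMonoidHom
    have hA'C : A' ≤ C := by
      rintro _ ⟨a, ha, rfl⟩
      refine mem_centralizer_iff.2 fun x hx => ?_
      have := m.comm _ (hg x hx) a ha
      show x * (g⁻¹ * a * g⁻¹⁻¹) = g⁻¹ * a * g⁻¹⁻¹ * x
      calc x * (g⁻¹ * a * g⁻¹⁻¹) = g⁻¹ * (g * x * g⁻¹ * a) * g := by group
        _ = g⁻¹ * (a * (g * x * g⁻¹)) * g := by rw [this]
        _ = _ := by group
    have hAp : IsPGroup 2 A' := (S.isPGroup'.to_le m.le).map _
    obtain ⟨R, hR⟩ := (hAp.comap_of_injective N.subtype N.subtype_injective :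
      IsPGroup 2 (A'.subgroupOf N)).exists_le_sylow
    obtain ⟨c, hc⟩ := MulAction.exists_smul_eq N R T
    set k' : G := (c : G) * g⁻¹
    set A'' := A.map (MulAut.conj k').toMonoidHom
    have hA''T : A'' ≤ (T : Subgroup N).map N.subtype := by
      rintro _ ⟨a, ha, rfl⟩
      have hm : (⟨g⁻¹ * a * g⁻¹⁻¹, hCN (hA'C ⟨a, ha, rfl⟩)⟩ : N) ∈ (R : Subgroup N) :=
        hR (mem_subgroupOf.2 ⟨a, ha, rfl⟩)
      refine ⟨c * ⟨g⁻¹ * a * g⁻¹⁻¹, hCN (hA'C ⟨a, ha, rfl⟩)⟩ * c⁻¹, by rw [← hc]; exact ⟨_, hm, rfl⟩, ?_⟩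
      show (c : G) * (g⁻¹ * a * g⁻¹⁻¹) * (c : G)⁻¹ = k' * a * k'⁻¹
      simp only [k']; group
    have hA''C : A'' ≤ C := by
      rintro _ ⟨a, ha, rfl⟩
      show k' * a * k'⁻¹ ∈ C
      have h1 : (⟨g⁻¹ * a * g⁻¹⁻¹, hCN (hA'C ⟨a, ha, rfl⟩)⟩ : N) ∈ C.subgroupOf N :=
        mem_subgroupOf.2 (hA'C ⟨a, ha, rfl⟩)
      have h2 := mem_subgroupOf.1 (Normal.conj_mem inferInstance _ h1 c)
      rw [Subgroup.coe_mul, Subgroup.coe_mul, Subgroup.coe_inv] at h2
      rw [show k' * a * k'⁻¹ = (c : G) * (g⁻¹ * a * g⁻¹⁻¹) * (c : G)⁻¹ by simp only [k']; group]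
      exact h2
    obtain ⟨T', hT'⟩ := (T.isPGroup'.map N.subtype).exists_le_sylow
    obtain ⟨t, ht⟩ := MulAction.exists_smul_eq G T' S
    have htS : ∀ x ∈ (T : Subgroup N).map N.subtype, t * x * t⁻¹ ∈ (S : Subgroup G) := fun x hx => by
      rw [← ht]; exact ⟨x, hT' hx, rfl⟩
    have htA : A''.map (MulAut.conj t).toMonoidHom = A := by
      refine m.uniq _ ?_ ?_ ?_
      · rintro _ ⟨x, hx, rfl⟩; exact htS x (hA''T hx)
      · rintro _ ⟨_, ⟨a, ha, rfl⟩, rfl⟩ _ ⟨_, ⟨b, hb, rfl⟩, rfl⟩
        rw [← map_mul, ← map_mul, m.comm a ha b hb, map_mul, map_mul]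
      · rw [← m.card, ← Nat.card_congr (A''.equivMapOfInjective _ (MulAut.conj t).injective).toEquiv,
          ← Nat.card_congr (A.equivMapOfInjective _ (MulAut.conj k').injective).toEquiv]
    have hmemA : ∀ x, x ∈ A'' ↔ t * x * t⁻¹ ∈ A := fun x => by
      rw [← htA]
      exact ⟨fun hx => ⟨x, hx, rfl⟩, fun ⟨y, hy, e⟩ => by
        rwa [(MulAut.conj t).injective (show (MulAut.conj t) y = (MulAut.conj t) x from e)] at hy⟩
    have hPT : P ≤ (T : Subgroup N).map N.subtype := fun x hx =>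
      ⟨⟨x, (mem_inf.1 hx).2⟩, hT (mem_subgroupOf.2 hx), rfl⟩
    set D := A'' ⊓ P
    have hXA'' : X ≤ A'' := fun x hx => (hmemA x).2 <| m.self _ (htS x (hPT (hXP hx))) fun a ha => by
      obtain ⟨y, hy, rfl⟩ : ∃ y ∈ A'', t * y * t⁻¹ = a := by
        rw [← htA] at ha; obtain ⟨y, hy, e⟩ := ha; exact ⟨y, hy, e⟩
      have := mem_centralizer_iff.1 (hA''C hy) x hx
      calc t * x * t⁻¹ * (t * y * t⁻¹) = t * (x * y) * t⁻¹ := by group
        _ = t * (y * x) * t⁻¹ := by rw [this]
        _ = _ := by group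
    have hXD : X ≤ D := le_inf hXA'' hXP
    have hAn : ∀ p ∈ P, t * p * t⁻¹ ∈ normalizer (A : Set G) := fun p hp => by
      rw [mem_normalizer_iff_map_conj_eq]
      refine m.uniq _ ?_ ?_ ?_
      · rintro _ ⟨a, ha, rfl⟩
        exact mul_mem (mul_mem (htS p (hPT hp)) (m.le ha)) (inv_mem (htS p (hPT hp)))
      · rintro _ ⟨a, ha, rfl⟩ _ ⟨b, hb, rfl⟩
        rw [← map_mul, m.comm a ha b hb, map_mul]
      · exact (Nat.card_congr (A.equivMapOfInjective (MulAut.conj (t * p * t⁻¹)).toMonoidHom (MulAut.conj (t * p * t⁻¹)).injective).toEquiv).symm.trans m.card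
    have hPn : P ≤ normalizer (D : Set G) := by
      have key : ∀ p ∈ P, ∀ x ∈ D, p * x * p⁻¹ ∈ D := fun p hp x hx => by
        refine mem_inf.2 ⟨(hmemA _).2 ?_, mul_mem (mul_mem hp (mem_inf.1 hx).2) (inv_mem hp)⟩
        rw [show t * (p * x * p⁻¹) * t⁻¹ = t * p * t⁻¹ * (t * x * t⁻¹) * (t * p * t⁻¹)⁻¹ by group]
        exact (mem_normalizer_iff.1 (hAn p hp) _).1 ((hmemA x).1 (mem_inf.1 hx).1)
      intro p hp
      refine mem_normalizer_iff.2 fun x => ⟨key p hp x, fun hx => ?_⟩
      have := key _ (inv_mem hp) _ hx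
      rwa [inv_inv, show p⁻¹ * (p * x * p⁻¹) * p = x by group] at this
    have hDc : ∀ a ∈ D, ∀ b ∈ D, a * b = b * a := fun a ha b hb => by
      have := m.comm _ ((hmemA a).1 (mem_inf.1 ha).1) _ ((hmemA b).1 (mem_inf.1 hb).1)
      exact (MulAut.conj t).injective (by simpa using this)
    have hDsq : ∀ a ∈ D, a * a = 1 := fun a ha => by
      have := m.sq _ ((hmemA a).1 (mem_inf.1 ha).1)
      exact (MulAut.conj t).injective (by simpa using this)
    have hDS : D ≤ (S : Subgroup G) := inf_le_right.trans inf_le_left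
    -- the option
    have hGl : ∀ x ∈ normList L, x < 512 ∧ m.F x ∈ P := fun x hx =>
      ⟨normList_lt L x hx, mem_inf.2 ⟨m.mem x (normList_lt L x hx),
        (m.mem_normList hL (normList_lt L x hx)).1 hx⟩⟩
    obtain ⟨L', hL', hL'D⟩ := m.levels_complete (Gl := picks (normList L)) (cand := candList L) (P := P) (D := D)
      (fun x hx => hGl x (picks_subset hx)) (S.isPGroup'.to_le inf_le_left) inf_le_right hPn hDS hDc hDsq (fun n hn hnD => by
        simp only [candList, List.mem_filter, List.mem_range, hn, true_and, Bool.and_eq_true, Nat.beq_eq,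
          List.all_eq_true]
        exact ⟨(m.sq_iff hn).1 (hDsq _ hnD), fun x hx => (m.comm_iff hn (hL.1 x (testList_subset hx))).1
          (hDc _ hnD _ (hXD ((hL.2.2 x (hL.1 x (testList_subset hx))).1 (testList_subset hx))))⟩)
      9 [L] L X List.mem_cons_self hL hXD inf_le_right (by
        have : 2 ≤ Nat.card X := by
          haveI : Nontrivial X := (Subgroup.nontrivial_iff_ne_bot X).2 hX1
          exact Finite.one_lt_card
        omega)
    have hopt : L' ∈ options L := by
      refine List.mem_filter.2 ⟨hL', ?_⟩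
      have hlen : (normList L).length = Nat.card P := by
        rw [← List.toFinset_card_of_nodup (normList_nodup L), ← Nat.card_eq_finsetCard]
        refine Nat.card_eq_of_bijective
          (fun x => (⟨m.F x.1, (hGl _ (List.mem_toFinset.1 x.2)).2⟩ : P)) ⟨fun x y e => ?_, fun p => ?_⟩
        · exact Subtype.ext (m.inj _ (hGl _ (List.mem_toFinset.1 x.2)).1 _
            (hGl _ (List.mem_toFinset.1 y.2)).1 (congrArg Subtype.val e))
        · obtain ⟨n, hn, e⟩ := m.surj _ (mem_inf.1 p.2).1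
          exact ⟨⟨n, List.mem_toFinset.2 ((m.mem_normList hL hn).2 (e ▸ (mem_inf.1 p.2).2))⟩, Subtype.ext e⟩
      -- `P / D` embeds in `S / A`
      haveI : (A.subgroupOf (S : Subgroup G)).Normal := by
        refine ⟨fun a ha s => mem_subgroupOf.2 ?_⟩
        have : A.map (MulAut.conj (s : G)).toMonoidHom = A := by
          refine m.uniq _ ?_ ?_ ?_
          · rintro _ ⟨a, ha, rfl⟩
            exact mul_mem (mul_mem s.2 (m.le ha)) (inv_mem s.2)
          · rintro _ ⟨a, ha, rfl⟩ _ ⟨b, hb, rfl⟩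
            rw [← map_mul, m.comm a ha b hb, map_mul]
          · exact (Nat.card_congr (A.equivMapOfInjective (MulAut.conj (s : G)).toMonoidHom (MulAut.conj (s : G)).injective).toEquiv).symm.trans m.card
        rw [← this]
        exact ⟨a, mem_subgroupOf.1 ha, rfl⟩
      let φ : P →* (↥(S : Subgroup G) ⧸ A.subgroupOf (S : Subgroup G)) :=
        (QuotientGroup.mk' _).comp (((MulAut.conj t).toMonoidHom.comp P.subtype).codRestrict _
          fun p => htS _ (hPT p.2))
      have hker : φ.ker = D.subgroupOf P := by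
        ext p
        rw [MonoidHom.mem_ker, mem_subgroupOf]
        show QuotientGroup.mk' _ _ = 1 ↔ _
        rw [QuotientGroup.mk'_apply, QuotientGroup.eq_one_iff, mem_subgroupOf]
        exact ⟨fun h => mem_inf.2 ⟨(hmemA _).2 h, p.2⟩, fun h => (hmemA _).1 (mem_inf.1 h).1⟩
      have hq : Nat.card (↥(S : Subgroup G) ⧸ A.subgroupOf (S : Subgroup G)) = 8 := by
        have e1 : Nat.card (S : Subgroup G) = 512 := by
          refine (Nat.card_eq_of_bijective (fun n : Fin 512 => (⟨m.F n, m.mem n n.2⟩ : (S : Subgroup G)))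
            ⟨fun a b e => Fin.ext (m.inj a a.2 b b.2 (congrArg Subtype.val e)), fun ⟨x, hx⟩ => ?_⟩).symm.trans
            (Nat.card_fin 512)
          obtain ⟨n, hn, e⟩ := m.surj x hx
          exact ⟨⟨n, hn⟩, Subtype.ext e⟩
        have := card_eq_card_quotient_mul_card_subgroup (A.subgroupOf (S : Subgroup G))
        rw [e1, Nat.card_congr (subgroupOfEquivOfLe m.le).toEquiv, m.card] at this
        omega
      have hPD : Nat.card P = Nat.card φ.range * Nat.card D := by
        rw [card_eq_card_quotient_mul_card_subgroup φ.ker,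
          Nat.card_congr (QuotientGroup.quotientKerEquivRange φ).toEquiv, hker,
          Nat.card_congr (subgroupOfEquivOfLe (inf_le_right : D ≤ P)).toEquiv]
      have hr : Nat.card φ.range ≤ 8 := hq ▸ Subgroup.card_le_card_group _
      have hDL := hL'D.card_le
      have h1 : (normList L).length ≤ 8 * L'.length := by
        rw [hlen, hPD]
        exact (Nat.mul_le_mul hr hDL)
      simp only [admissible, Bool.and_eq_true, Bool.not_eq_true', Bool.and_eq_false_iff, Nat.ble_eq,
        beq_eq_false_iff_ne, ne_eq]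
      refine ⟨h1, ?_⟩
      by_contra hcon
      push Not at hcon
      obtain ⟨hlen8, hsq⟩ := hcon
      rw [Bool.ne_false_iff, List.all_eq_true] at hsq
      rw [hlen, hPD] at hlen8
      have hr8 : Nat.card φ.range = 8 := by
        refine le_antisymm hr ?_
        by_contra hlt
        have := Nat.mul_le_mul (show Nat.card φ.range ≤ 7 by omega) hDL
        have hDpos : 0 < Nat.card D := Nat.card_pos
        omega
      have htop : φ.range = ⊤ := Subgroup.eq_top_of_card_eq _ (hr8.trans hq.symm)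
      obtain ⟨p, hp⟩ : (QuotientGroup.mk' (A.subgroupOf (S : Subgroup G)) ⟨m.F 3, m.mem 3 (by norm_num)⟩) ∈
          φ.range := htop ▸ mem_top _
      obtain ⟨n, hn, en⟩ := m.surj _ (mem_inf.1 p.2).1
      have hn' := hsq n ((m.mem_normList hL hn).2 (en ▸ (mem_inf.1 p.2).2))
      rw [tb_eq, testBit_mask, decide_eq_true_eq] at hn'
      have hp2 : φ (p * p) = 1 := by
        rw [← MonoidHom.mem_ker, hker, mem_subgroupOf, Subgroup.coe_mul, ← en, m.hmul n hn n hn]
        exact (hL'D.2.2 _ (mul_lt hn hn)).1 hn'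
      rw [map_mul, hp, ← map_mul, QuotientGroup.mk'_apply, QuotientGroup.eq_one_iff, mem_subgroupOf] at hp2
      have h3 : m.F 3 * m.F 3 ∈ A := hp2
      rw [m.hmul 3 (by norm_num) 3 (by norm_num), m.hA _ (mul_lt (by norm_num) (by norm_num))] at h3
      exact absurd h3 (by decide +kernel)
    have hd : dead k L' = true := by
      simp only [dead, List.all_eq_true] at hdead
      exact hdead L' hopt
    refine ih L' D hd hL'D (fun e => hX1 (le_bot_iff.1 (e ▸ hXD))) hDc hDsq k'⁻¹ fun x hx => ?_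
    obtain ⟨a, ha, e⟩ := (mem_inf.1 hx).1
    rw [← e]
    show k'⁻¹ * (k' * a * k'⁻¹) * k'⁻¹⁻¹ ∈ A
    rwa [show k'⁻¹ * (k' * a * k'⁻¹) * k'⁻¹⁻¹ = a by group]

end CfsgLib.MModel24
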