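import Cfsg.Agent.MModel24.Model
import Cfsg.Agent.MModel24.Fusion
import Cfsg.Agent.MModel24.AutoLoc
import Cfsg.Agent.MModel24.ChecksAuto
import Cfsg.Agent.MModel24.ChecksModel

/-!
# The automizer of the abelian subgroup satisfies the abstract hypotheses
-/

set_option autoImplicit false
set_option linter.style.haveILetI false
set_option linter.unusedSectionVars false

namespace CfsgLib.MModel24

open Subgroup

variable {G : Type*} [Group G] [Finite G] {S : Sylow 2 G} {A : Subgroup G} (m : Model S A)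
include m

theorem Model.mem_normalizer {n : ℕ} (hn : n < 512) : m.F n ∈ normalizer (A : Set G) := by
  refine mem_normalizer_iff.2 fun x => ?_
  have key : ∀ k < 512, ∀ a ∈ A, m.F k * a * (m.F k)⁻¹ ∈ A := by
    intro k hk a ha
    obtain ⟨b, hb, rfl⟩ := m.surj a (m.le ha)
    rw [← m.map_conj hk hb, m.hA _ (conj_lt hk hb)]
    have hb8 := (m.hA b hb).1 ha
    have : (conj k b) % 8 = 0 := by
      have e := m.map_conj hk hb
      have hd : ∀ k < 512, ∀ v < 64, conj k (8 * v) % 8 = 0 := by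
        intro k hk v hv
        have := mulD_lt (x := 0) (y := 0) (by norm_num) (by norm_num)
        have h1 : ∀ a b, mul a b % 8 = mulD (a % 8) (b % 8) % 8 := fun a b => by
          show (mulD (a % 8) (b % 8) + 8 * _) % 8 = _
          rw [Nat.add_mul_mod_self_left]
        have hz : ∀ d < 8, ∀ i < 512, i % 8 = d → mulD (mulD d 0) (inv i % 8) % 8 = 0 := by
          intro d hd i hi hid
          have := congrArg (· % 8) (mul_inv_self i hi)
          simp only [h1, hid, Nat.zero_mod] at this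
          rw [show mulD d 0 = d from (by decide +kernel : ∀ d < 8, mulD d 0 = d) d hd]
          exact this
        rw [conj, h1, h1, Nat.mul_mod_right]
        have := hz (k % 8) (by omega) k hk rfl
        rwa [Nat.mod_eq_of_lt (mulD_lt (x := k % 8) (y := 0) (by omega) (by norm_num))]
      rw [show b = 8 * (b / 8) by omega]
      exact hd k hk (b / 8) (by omega)
    exact this
  refine ⟨key n hn x, fun h => ?_⟩
  have := key (inv n) (inv_lt hn) _ h
  rwa [m.map_inv hn, inv_inv, show (m.F n)⁻¹ * (m.F n * x * (m.F n)⁻¹) * m.F n = x by group] at this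

/-- The action of the normalizer. -/
noncomputable def Model.autMap : normalizer (A : Set G) →* MulAut A := A.normalizerMonoidHom

omit m in
theorem autMap_apply (g : normalizer (A : Set G)) (a : A) :
    ((A.normalizerMonoidHom g a : A) : G) = g * a * (g : G)⁻¹ := rfl

/-- The automorphism induced by an element of the model. -/
noncomputable def Model.d (e : ℕ) : MulAut A :=
  if h : e < 512 then A.normalizerMonoidHom ⟨m.F e, m.mem_normalizer h⟩ else 1

/-- The vectors. -/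
noncomputable def Model.vec (v : ℕ) : A :=
  if h : 8 * v < 512 then ⟨m.F (8 * v), (m.hA _ h).2 (Nat.mul_mod_right 8 v)⟩ else 1

theorem Model.vec_surj (a : A) : ∃ v < 64, m.vec v = a := by
  obtain ⟨n, hn, e⟩ := m.surj _ (m.le a.2)
  have h8 := (m.hA n hn).1 (e ▸ a.2)
  refine ⟨n / 8, by omega, Subtype.ext ?_⟩
  rw [Model.vec, dif_pos (by omega)]
  show m.F (8 * (n / 8)) = a
  rw [show 8 * (n / 8) = n by omega, e]

theorem Model.vec_inj {v w : ℕ} (hv : v < 64) (hw : w < 64) (h : m.vec v = m.vec w) : v = w := by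
  rw [Model.vec, dif_pos (by omega), Model.vec, dif_pos (by omega)] at h
  have := m.inj _ (by omega) _ (by omega) (congrArg Subtype.val h :)
  omega

theorem Model.vec_mul_vec {v w : ℕ} (hv : v < 64) (hw : w < 64) : m.vec v * m.vec w = m.vec (v ^^^ w) := by
  refine Subtype.ext ?_
  rw [Model.vec, dif_pos (by omega), Model.vec, dif_pos (by omega), Model.vec,
    dif_pos (by have := xor_lt hv hw; omega)]
  show m.F (8 * v) * m.F (8 * w) = m.F _
  rw [m.hmul _ (by omega) _ (by omega), mul_vec v hv w hw]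

theorem Model.vec_zero : m.vec 0 = 1 := by
  refine Subtype.ext ?_
  rw [Model.vec, dif_pos (by norm_num)]
  exact m.map_zero

theorem Model.vec_eq_one {v : ℕ} (hv : v < 64) : m.vec v = 1 ↔ v = 0 :=
  ⟨fun h => m.vec_inj hv (by norm_num) (h.trans m.vec_zero.symm), fun h => h ▸ m.vec_zero⟩

theorem Model.d_vec {e v : ℕ} (he : e < 8) (hv : v < 64) : m.d e (m.vec v) = m.vec (al e v) := by
  obtain ⟨h1, h2⟩ := al_mul_ok e he v hv
  refine Subtype.ext ?_
  rw [Model.d, dif_pos (by omega), autMap_apply, Model.vec, dif_pos (by omega), Model.vec, dif_pos (by omega)]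
  show m.F e * m.F (8 * v) * (m.F e)⁻¹ = m.F _
  rw [← m.map_conj (by omega) (by omega), h1]

theorem Model.d_mul {e f : ℕ} (he : e < 8) (hf : f < 8) : m.d e * m.d f = m.d (mulD e f) := by
  rw [Model.d, dif_pos (by omega), Model.d, dif_pos (by omega), Model.d,
    dif_pos (by have := mulD_lt he hf; omega), ← map_mul]
  refine congrArg _ (Subtype.ext ?_)
  show m.F e * m.F f = m.F _
  rw [m.hmul e (by omega) f (by omega)]
  congr 1
  show mulD (e % 8) (f % 8) + 8 * (act (f % 8) (e / 8) ^^^ f / 8) = _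
  rw [Nat.mod_eq_of_lt he, Nat.mod_eq_of_lt hf, Nat.div_eq_of_lt he, Nat.div_eq_of_lt hf]
  rw [(by decide +kernel : ∀ f < 8, act f 0 = 0) f hf]
  simp

theorem Model.d_mod {n : ℕ} (hn : n < 512) : m.d n = m.d (n % 8) := by
  rw [Model.d, dif_pos hn, Model.d, dif_pos (by omega)]
  refine MulEquiv.ext fun a => Subtype.ext ?_
  rw [autMap_apply, autMap_apply]
  show m.F n * a * (m.F n)⁻¹ = m.F (n % 8) * a * (m.F (n % 8))⁻¹
  have hv : m.F (8 * (n / 8)) ∈ A := (m.hA _ (by omega)).2 (Nat.mul_mod_right 8 _)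
  have hs : m.F n = m.F (n % 8) * m.F (8 * (n / 8)) := by
    rw [m.hmul _ (by omega) _ (by omega), mul_split _ (by omega) _ (by omega), Nat.mod_add_div]
  rw [hs, mul_inv_rev]
  calc m.F (n % 8) * m.F (8 * (n / 8)) * a * ((m.F (8 * (n / 8)))⁻¹ * (m.F (n % 8))⁻¹)
      = m.F (n % 8) * (m.F (8 * (n / 8)) * a * (m.F (8 * (n / 8)))⁻¹) * (m.F (n % 8))⁻¹ := by group
    _ = _ := by rw [m.comm _ hv _ a.2, mul_inv_cancel_right]

theorem Model.d_zero : m.d 0 = 1 := by
  rw [Model.d, dif_pos (by norm_num), ← map_one (A.normalizerMonoidHom)]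
  exact congrArg _ (Subtype.ext m.map_zero)

theorem Model.d_inj {e f : ℕ} (he : e < 8) (hf : f < 8) (h : m.d e = m.d f) : e = f := by
  rw [Model.d, dif_pos (by omega), Model.d, dif_pos (by omega), ← mul_inv_eq_one, ← _root_.map_inv, ← map_mul] at h
  have hk : m.F e * (m.F f)⁻¹ ∈ A := by
    refine m.self _ (mul_mem (m.mem e (by omega)) (inv_mem (m.mem f (by omega)))) fun a ha => ?_
    have := congrArg Subtype.val (DFunLike.congr_fun h ⟨a, ha⟩)
    rw [autMap_apply] at this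
    exact mul_inv_eq_iff_eq_mul.1 this
  rw [← m.map_inv (by omega), m.hmul e (by omega) _ (inv_lt (by omega)),
    m.hA _ (mul_lt (by omega) (inv_lt (by omega)))] at hk
  revert hk
  revert f e
  intro e f _ _ _
  exact fun hk => by
    have key : ∀ e < 8, ∀ f < 8, mul e (inv f) % 8 = 0 → e = f := by decide +kernel
    exact key e ‹_› f ‹_› hk

theorem Model.inT_iff {e c : ℕ} (he : e < 8) (hc : c < 64) :
    InT (m.d e) (m.vec c) ↔ tb (imMask e) c = true := by
  rw [tb_eq, imMask, testBit_mask, decide_eq_true_eq, List.mem_map]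
  constructor
  · rintro ⟨a, ha⟩
    obtain ⟨v, hv, rfl⟩ := m.vec_surj a
    rw [m.d_vec he hv, m.vec_mul_vec (al_mul_ok e he v hv).2 hv] at ha
    exact ⟨v, List.mem_range.2 hv, m.vec_inj (xor_lt (al_mul_ok e he v hv).2 hv) hc ha⟩
  · rintro ⟨v, hv, rfl⟩
    rw [List.mem_range] at hv
    exact ⟨m.vec v, by rw [m.d_vec he hv, m.vec_mul_vec (al_mul_ok e he v hv).2 hv]⟩

theorem Model.fix_iff {e c : ℕ} (he : e < 8) (hc : c < 64) : m.d e (m.vec c) = m.vec c ↔ al e c = c := by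
  rw [m.d_vec he hc]
  exact ⟨m.vec_inj (al_mul_ok e he c hc).2 hc, fun h => by rw [h]⟩

theorem Model.keyData {t f : ℕ} (ht : t < 8) (hf : f < 8) (h : keyOK t f = true) :
    KeyData (m.d t) (m.d f) := by
  simp only [keyOK, List.all_eq_true, List.mem_range, Bool.and_eq_true, Bool.or_eq_true, Bool.not_eq_true',
    Nat.beq_eq] at h
  constructor
  · intro a
    obtain ⟨v, hv, rfl⟩ := m.vec_surj a
    have h2 := (al_mul_ok t ht v hv).2
    rw [m.d_vec ht hv, m.vec_mul_vec h2 hv, m.d_vec hf (xor_lt h2 hv), (h v hv).1]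
  · intro c hc
    obtain ⟨v, hv, rfl⟩ := m.vec_surj c
    rw [m.fix_iff ht hv] at hc
    have h2 := (al_mul_ok f hf v hv).2
    rw [m.d_vec hf hv, m.vec_mul_vec h2 hv, m.inT_iff ht (xor_lt h2 hv)]
    refine (h v hv).2.resolve_left fun e => ?_
    rw [← Nat.beq_eq] at hc
    simp [hc] at e

theorem Model.fourData {t u : ℕ} (ht : t < 8) (hu : u < 8) {i : ℕ} (h : fourOK t u i = true) :
    FourData (m.d t) (m.d u) := by
  simp only [fourOK, List.all_eq_true, List.any_eq_true, List.mem_range, List.mem_filter, Bool.and_eq_true,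
    Bool.or_eq_true, Bool.not_eq_true', Nat.beq_eq, Nat.blt_eq] at h
  obtain ⟨⟨⟨⟨hA', ⟨⟨⟨⟨hi0, hi64⟩, iT⟩, iU⟩, iW⟩⟩, hB⟩, hC⟩, hD⟩ := h
  have hw := mulD_lt ht hu
  have hi : ¬ i = 0 := fun e => by simp [e] at hi0
  have alt := fun a (ha : a < 64) => (al_mul_ok t ht a ha).2
  have alu := fun a (ha : a < 64) => (al_mul_ok u hu a ha).2
  refine ⟨?_, ?_, ?_, ?_, ?_, ⟨m.vec i, fun e => hi ((m.vec_eq_one hi64).1 e), (m.inT_iff ht hi64).2 iT,
    (m.inT_iff hu hi64).2 iU, ?_, ?_, ?_, ?_⟩, ?_⟩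
  all_goals first | rw [m.d_mul ht hu] | skip
  · intro a
    obtain ⟨v, hv, rfl⟩ := m.vec_surj a
    rw [m.d_vec ht hv, m.d_vec ht (alt v hv), (hA' v hv).1.1.1.1]
  · intro a
    obtain ⟨v, hv, rfl⟩ := m.vec_surj a
    rw [m.d_vec hu hv, m.d_vec hu (alu v hv), (hA' v hv).1.1.1.2]
  · intro a
    obtain ⟨v, hv, rfl⟩ := m.vec_surj a
    rw [m.d_vec hu hv, m.d_vec ht hv, m.d_vec ht (alu v hv), m.d_vec hu (alt v hv), (hA' v hv).1.1.2]
  · intro a
    obtain ⟨v, hv, rfl⟩ := m.vec_surj a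
    rw [m.d_vec ht hv, m.vec_mul_vec (alt v hv) hv, m.d_vec hu (xor_lt (alt v hv) hv), (hA' v hv).1.2]
  · intro a
    obtain ⟨v, hv, rfl⟩ := m.vec_surj a
    rw [m.d_vec hu hv, m.vec_mul_vec (alu v hv) hv, m.d_vec ht (xor_lt (alu v hv) hv), (hA' v hv).2]
  · exact (m.inT_iff hw hi64).2 iW
  · intro c h1 h2
    obtain ⟨v, hv, rfl⟩ := m.vec_surj c
    rw [m.inT_iff ht hv] at h1
    rw [m.inT_iff hu hv] at h2
    rcases (hB v hv).1 with (e | e) | e
    · rw [h1, h2] at e; exact absurd e (by decide)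
    · exact .inl ((m.vec_eq_one hv).2 e)
    · exact .inr (by rw [e])
  · intro c h1 h2
    obtain ⟨v, hv, rfl⟩ := m.vec_surj c
    rw [m.inT_iff hu hv] at h1
    rw [m.inT_iff hw hv] at h2
    rcases (hB v hv).2 with (e | e) | e
    · rw [h1, h2] at e; exact absurd e (by decide)
    · exact .inl ((m.vec_eq_one hv).2 e)
    · exact .inr (by rw [e])
  · intro c h1 h2
    obtain ⟨v, hv, rfl⟩ := m.vec_surj c
    rw [m.fix_iff ht hv, ← Nat.beq_eq] at h1
    rw [m.fix_iff hu hv, ← Nat.beq_eq] at h2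
    rcases hC v hv with ((e | e) | e) | ⟨x, hx, hx1, hx2⟩
    · rw [h1, h2] at e; exact absurd e (by decide)
    · exact .inl ((m.vec_eq_one hv).2 e)
    · exact .inr (.inl (by rw [e]))
    have hx8 : x < 8 := by
      simp only [List.mem_cons, List.not_mem_nil, or_false] at hx
      rcases hx with rfl | rfl | rfl <;> assumption
    refine .inr (.inr ⟨m.d x, ?_, (m.inT_iff hx8 hv).2 hx1, fun d hd => ?_⟩)
    · simp only [List.mem_cons, List.not_mem_nil, or_false] at hx
      rcases hx with rfl | rfl | rfl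
      exacts [.inl rfl, .inr (.inl rfl), .inr (.inr rfl)]
    · obtain ⟨d, hd', rfl⟩ := m.vec_surj d
      rw [m.inT_iff hx8 hd'] at hd
      rcases hx2 d hd' with (((e | e) | e) | e) | e
      · rw [hd] at e; exact absurd e (by decide)
      · exact .inl ((m.vec_eq_one hd').2 e)
      · exact .inr (.inl (by rw [e]))
      · exact .inr (.inr (.inl (by rw [e])))
      · exact .inr (.inr (.inr (by rw [e, m.vec_mul_vec hv hi64])))
  · intro a b h1 h2 h3 h4 h5 h6
    obtain ⟨v, hv, rfl⟩ := m.vec_surj a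
    obtain ⟨w, hw', rfl⟩ := m.vec_surj b
    rw [m.vec_mul_vec hv hw']
    rw [Ne, m.fix_iff ht hv, ← Nat.beq_eq, Bool.not_eq_true] at h1
    rw [Ne, m.fix_iff hu hv, ← Nat.beq_eq, Bool.not_eq_true] at h2
    rw [Ne, m.fix_iff hw hv, ← Nat.beq_eq, Bool.not_eq_true] at h3
    rw [Ne, m.fix_iff ht hw', ← Nat.beq_eq, Bool.not_eq_true] at h4
    rw [Ne, m.fix_iff hu hw', ← Nat.beq_eq, Bool.not_eq_true] at h5
    rw [Ne, m.fix_iff hw hw', ← Nat.beq_eq, Bool.not_eq_true] at h6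
    have hx := xor_lt hv hw'
    rw [m.fix_iff ht hx, m.fix_iff hu hx, m.fix_iff hw hx]
    exact or_assoc.1 (hD v ⟨hv, by simp [h1, h2, h3]⟩ w ⟨hw', by simp [h4, h5, h6]⟩)

/-- The embedding of the dihedral group. -/
noncomputable def Model.dih : DihedralGroup 4 →* MulAut A :=
  MonoidHom.mk' (fun x => m.d (num x)) fun x y => by
    rw [m.d_mul (num_lt x) (num_lt y), num_mul]

theorem Model.loc : Loc A.normalizerMonoidHom.range := by
  classical
  haveI : Fact (Nat.Prime 2) := ⟨Nat.prime_two⟩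
  set X := A.normalizerMonoidHom.range
  have hdX : ∀ e < 512, m.d e ∈ X := fun e he => by
    rw [Model.d, dif_pos he]; exact ⟨_, rfl⟩
  let f : DihedralGroup 4 →* X := m.dih.codRestrict X fun x => hdX _ ((num_lt x).trans (by norm_num))
  have hf : Function.Injective f := fun x y h =>
    num_inj x y (m.d_inj (num_lt x) (num_lt y) (congrArg Subtype.val h :))
  have hSN : (S : Subgroup G) ≤ normalizer (A : Set G) := fun s hs => by
    obtain ⟨n, hn, rfl⟩ := m.surj s hs; exact m.mem_normalizer hn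
  let P : Sylow 2 X := (S.subtype hSN).mapSurjective A.normalizerMonoidHom.rangeRestrict_surjective
  have hP : (P : Subgroup X) = f.range := by
    ext y
    rw [Sylow.coe_mapSurjective, Subgroup.mem_map]
    constructor
    · rintro ⟨s, hs, rfl⟩
      obtain ⟨n, hn, e⟩ := m.surj s hs
      obtain ⟨x, hx⟩ := num_surj (n % 8) (Nat.mod_lt _ (by norm_num))
      refine ⟨x, Subtype.ext ?_⟩
      show m.d (num x) = A.normalizerMonoidHom s
      rw [hx, ← m.d_mod hn, Model.d, dif_pos hn]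
      exact congrArg _ (Subtype.ext e)
    · rintro ⟨x, rfl⟩
      have hx : num x < 512 := (num_lt x).trans (by norm_num)
      refine ⟨⟨m.F (num x), m.mem_normalizer hx⟩, m.mem _ hx, Subtype.ext ?_⟩
      show A.normalizerMonoidHom _ = m.d (num x)
      rw [Model.d, dif_pos hx]
  have hPd : ∀ p ∈ (P : Subgroup X), ∃ e < 8, (p : MulAut A) = m.d e := fun p hp => by
    obtain ⟨x, rfl⟩ := hP ▸ hp
    exact ⟨num x, num_lt x, rfl⟩
  have pair : ∀ t ∈ X, ∀ g ∈ X, t * t = 1 → t * g = g * t → (∃ j : ℕ, g ^ 2 ^ j = 1) →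
      ∃ (y : MulAut A) (a b : ℕ), a < 8 ∧ b < 8 ∧ y * t * y⁻¹ = m.d a ∧ y * g * y⁻¹ = m.d b := by
    intro t ht g hg t2 tg hg2
    let Y : Subgroup X := Subgroup.closure {⟨t, ht⟩, ⟨g, hg⟩}
    have hY : IsPGroup 2 Y := by
      obtain ⟨j, hj⟩ := hg2
      rintro ⟨y, hy⟩
      obtain ⟨a, b, rfl⟩ : ∃ a b : ℤ, y = (⟨t, ht⟩ : X) ^ a * (⟨g, hg⟩ : X) ^ b := by
        have hc : Commute (⟨t, ht⟩ : X) ⟨g, hg⟩ := Subtype.ext tg
        refine Subgroup.closure_induction (fun z hz => ?_) ⟨0, 0, by simp⟩ ?_ ?_ hy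
        · rcases hz with rfl | rfl
          · exact ⟨1, 0, by simp⟩
          · exact ⟨0, 1, by simp⟩
        · rintro _ _ _ _ ⟨a, b, rfl⟩ ⟨c, d, rfl⟩
          refine ⟨a + c, b + d, ?_⟩
          rw [zpow_add, zpow_add, mul_assoc, ← mul_assoc (_ ^ b), ← (hc.zpow_zpow c b).eq]
          group
        · rintro _ _ ⟨a, b, rfl⟩
          exact ⟨-a, -b, by rw [mul_inv_rev, (hc.zpow_zpow a b).inv_inv.symm.eq, zpow_neg, zpow_neg]⟩
      refine ⟨j + 1, Subtype.ext ?_⟩
      have hc : Commute ((⟨t, ht⟩ : X) ^ a) ((⟨g, hg⟩ : X) ^ b) := (Commute.zpow_zpow (Subtype.ext tg) a b)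
      show ((⟨t, ht⟩ : X) ^ a * (⟨g, hg⟩ : X) ^ b) ^ 2 ^ (j + 1) = 1
      have e1 : (⟨t, ht⟩ : X) ^ 2 ^ (j + 1) = 1 := by
        rw [pow_succ', pow_mul]
        exact (congrArg (· ^ 2 ^ j) (Subtype.ext (by rw [SubgroupClass.coe_pow, pow_two]; exact t2) : _)).trans (one_pow _)
      have e2 : (⟨g, hg⟩ : X) ^ 2 ^ (j + 1) = 1 := by
        rw [pow_succ, pow_mul, show (⟨g, hg⟩ : X) ^ 2 ^ j = 1 from Subtype.ext hj, one_pow]
      rw [hc.mul_pow, ← zpow_natCast, ← zpow_natCast, ← zpow_mul, ← zpow_mul, mul_comm a, mul_comm b,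
        zpow_mul, zpow_mul, zpow_natCast, zpow_natCast, e1, e2, one_zpow, one_zpow, one_mul]
    obtain ⟨Q, hQ⟩ := hY.exists_le_sylow
    obtain ⟨y, hy⟩ := MulAction.exists_smul_eq X Q P
    have mem : ∀ z ∈ Y, y * z * y⁻¹ ∈ (P : Subgroup X) := fun z hz => by
      rw [← hy]; exact ⟨z, hQ hz, rfl⟩
    obtain ⟨a, ha, ea⟩ := hPd _ (mem ⟨t, ht⟩ (subset_closure (Set.mem_insert _ _)))
    obtain ⟨b, hb, eb⟩ := hPd _ (mem ⟨g, hg⟩ (subset_closure (Set.mem_insert_of_mem _ rfl)))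
    exact ⟨y, a, b, ha, hb, ea, eb⟩
  have cne : ∀ {y t : MulAut A}, t ≠ 1 → y * t * y⁻¹ ≠ 1 := fun ht e => ht (conj_eq_one_iff.1 e)
  have dinj0 : ∀ {a : ℕ}, a < 8 → m.d a ≠ 1 → a ≠ 0 := fun _ h e => h (e ▸ m.d_zero)
  have dsq : ∀ {a : ℕ}, a < 8 → m.d a * m.d a = 1 → mulD a a = 0 := fun ha e =>
    m.d_inj (mulD_lt ha ha) (by norm_num) (by rw [← m.d_mul ha ha, e, m.d_zero])
  have dcomm : ∀ {a b : ℕ}, a < 8 → b < 8 → m.d a * m.d b = m.d b * m.d a → mulD a b = mulD b a :=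
    fun ha hb e => m.d_inj (mulD_lt ha hb) (mulD_lt hb ha) (by rw [← m.d_mul ha hb, ← m.d_mul hb ha, e])
  refine ⟨fun a b => Subtype.ext (m.comm _ a.2 _ b.2), fun a => Subtype.ext (m.sq _ a.2), m.card,
    ⟨P, ⟨(MulEquiv.subgroupCongr hP).trans (MonoidHom.ofInjective hf).symm⟩⟩, ?_, ?_, ?_, ?_⟩
  · intro t ht g hg t1 t2 tg hg2
    obtain ⟨y, a, b, ha, hb, ea, eb⟩ := pair t ht g hg t2 tg hg2
    refine KeyData.conj (y := y) ?_
    rw [ea, eb]
    refine m.keyData ha hb (keyOK_ok a ha b hb (dinj0 ha (ea ▸ cne t1)) (dsq ha ?_) (dcomm ha hb ?_))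
    · rw [← ea, conj_mul, t2, mul_one, mul_inv_cancel]
    · rw [← ea, ← eb, conj_mul, conj_mul, tg]
  · intro t ht u hu t1 u1 tu t2 u2 hc
    obtain ⟨y, a, b, ha, hb, ea, eb⟩ := pair t ht u hu t2 hc ⟨1, by rw [pow_one, pow_two, u2]⟩
    refine FourData.conj (y := y) ?_
    rw [ea, eb]
    refine m.fourData ha hb (fourOK_ok ha hb (dinj0 ha (ea ▸ cne t1)) (dinj0 hb (eb ▸ cne u1))
      (fun e => tu ?_) (dsq ha ?_) (dsq hb ?_) (dcomm ha hb ?_))
    · rw [← e, ← ea] at eb
      exact (mul_left_cancel (mul_right_cancel eb)).symm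
    · rw [← ea, conj_mul, t2, mul_one, mul_inv_cancel]
    · rw [← eb, conj_mul, u2, mul_one, mul_inv_cancel]
    · rw [← ea, ← eb, conj_mul, conj_mul, hc]
  · refine ⟨m.d 4, hdX 4 (by norm_num), fun e => absurd (m.d_inj (by norm_num) (by norm_num)
      (e.trans m.d_zero.symm)) (by norm_num), by rw [m.d_mul (by norm_num) (by norm_num)]; exact m.d_zero, ?_⟩
    refine (Nat.le_of_ble_eq_true fix_z).trans ?_
    rw [← List.toFinset_card_of_nodup (List.nodup_range.filter _), ← Nat.card_eq_finsetCard]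
    refine Nat.card_le_card_of_injective (fun v => ⟨m.vec v.1, ?_⟩) fun v w h => ?_
    · obtain ⟨hv, e⟩ := List.mem_filter.1 (List.mem_toFinset.1 v.2)
      exact (m.fix_iff (by norm_num) (List.mem_range.1 hv)).2 (Nat.eq_of_beq_eq_true e)
    · exact Subtype.ext (m.vec_inj (List.mem_range.1 (List.mem_filter.1 (List.mem_toFinset.1 v.2)).1)
        (List.mem_range.1 (List.mem_filter.1 (List.mem_toFinset.1 w.2)).1) (congrArg Subtype.val h :))
  · have D : ∀ {a : ℕ} (ha : a < 8), (⟨m.d a, hdX a (by omega)⟩ : X) ∈ (P : Subgroup X) := fun {a} ha => by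
      obtain ⟨x, hx⟩ := num_surj a ha
      rw [hP]
      exact ⟨x, Subtype.ext (congrArg m.d hx)⟩
    have ncen : ∀ {a b : ℕ} (ha : a < 8) (hb : b < 8), mulD a b ≠ mulD b a →
        ∃ p ∈ (P : Subgroup X), p * ⟨m.d b, hdX b (by omega)⟩ ≠ ⟨m.d b, hdX b (by omega)⟩ * p := fun ha hb h =>
      ⟨_, D ha, fun e => h (dcomm ha hb (congrArg Subtype.val e :))⟩
    refine ⟨P, ⟨m.d 1, hdX 1 (by norm_num)⟩, ⟨m.d 2, hdX 2 (by norm_num)⟩, ⟨m.d 4, hdX 4 (by norm_num)⟩,
      D (by norm_num), D (by norm_num), D (by norm_num), fun p hp => ?_, ncen (a := 2) (by norm_num) (by norm_num) (by decide +kernel),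
      ncen (a := 1) (by norm_num) (by norm_num) (by decide +kernel), ?_, ?_, ?_, ?_, ?_⟩
    · obtain ⟨e, he, ee⟩ := hPd p hp
      refine Subtype.ext ?_
      show (p : MulAut A) * m.d 4 = m.d 4 * p
      rw [ee, m.d_mul he (by norm_num), m.d_mul (by norm_num) he]
      revert e; intro e he _
      have key : ∀ e < 8, mulD e 4 = mulD 4 e := by decide +kernel
      rw [key e he]
    · exact Subtype.ext ((m.d_mul (by norm_num) (by norm_num)).trans m.d_zero)
    · exact Subtype.ext ((m.d_mul (by norm_num) (by norm_num)).trans m.d_zero)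
    · exact Subtype.ext ((m.d_mul (by norm_num) (by norm_num)).trans m.d_zero)
    · intro e
      have h40 : (4 : ℕ) = 0 := m.d_inj (by norm_num) (by norm_num) ((congrArg Subtype.val e).trans m.d_zero.symm)
      exact absurd h40 (by norm_num)
    · intro c h1 h2 h4
      obtain ⟨v, hv, rfl⟩ := m.vec_surj c
      have := List.all_eq_true.1 common_ok v (List.mem_range.2 hv)
      rw [(m.inT_iff (by norm_num) hv).1 h1, (m.inT_iff (by norm_num) hv).1 h2,
        (m.inT_iff (by norm_num) hv).1 h4] at this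
      exact (m.vec_eq_one hv).2 (Nat.eq_of_beq_eq_true (by simpa using this))

end CfsgLib.MModel24
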