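import Cfsg.Agent.MModel24.AutoElim
import Cfsg.Agent.GW.Classification
import Cfsg.Agent.Linear.Basic
import Cfsg.Agent.Linear.Perfect
import Cfsg.Agent.Small.ThompsonTransfer
import Cfsg.Agent.S0253
import Cfsg.Agent.S0254

/-!
# The possible automizers
-/

set_option autoImplicit false
set_option linter.style.haveILetI false
set_option linter.unusedSectionVars false

namespace CfsgLib.MModel24

open Subgroup

variable {V : Type*} [Group V] [Finite V] {X : Subgroup (MulAut V)}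

omit [Finite V] in
/-- The fixed vectors of a conjugate. -/
theorem card_fix_conj (y x : X) :
    Nat.card {a : V // ((y * x * y⁻¹ : X) : MulAut V) a = a} = Nat.card {a : V // (x : MulAut V) a = a} := by
  refine (Nat.card_congr ((y : MulAut V).toEquiv.subtypeEquiv fun a => ?_)).symm
  simp only [Subgroup.coe_mul, InvMemClass.coe_inv, MulAut.mul_apply, MulAut.inv_apply, MulEquiv.toEquiv_eq_coe,
    EquivLike.coe_coe, MulEquiv.symm_apply_apply, EmbeddingLike.apply_eq_iff_eq]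

/-- A prime power dividing a number. -/
theorem pow_le_of_dvd {p b : ℕ} (hp : p.Prime) {k : ℕ} (hd : p ^ k ∣ p ^ b) : k ≤ b :=
  (Nat.pow_dvd_pow_iff_le_right hp.one_lt).1 hd

/-- The possible orders of a `PSL₂(q)` in the automizer. -/
theorem psl_param {q N : ℕ} (hq : IsPrimePow q) (hodd : Odd q) (h3 : 3 < q)
    (hN : 2 * N = q * (q ^ 2 - 1)) (hdvd : N ∣ 20158709760) (h16 : ¬ 16 ∣ N) : q = 5 ∨ q = 7 ∨ q = 9 := by
  obtain ⟨p, k, hp, hk, rfl⟩ := (isPrimePow_nat_iff q).1 hq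
  have hp2 : p ≠ 2 := fun e => by
    rw [e] at hodd
    exact absurd hodd (Nat.not_odd_iff_even.2 (Nat.even_pow.2 ⟨even_two, hk.ne'⟩))
  have hc : Nat.Coprime (p ^ k) 2 := Nat.Coprime.pow_left _ ((Nat.coprime_primes hp Nat.prime_two).2 hp2)
  have hqN : p ^ k ∣ N := hc.dvd_of_dvd_mul_left ⟨_, hN⟩
  have hd : p ^ k ∣ 2 ^ 15 * 615195 := (hqN.trans hdvd).trans (by norm_num)
  have hd' : p ^ k ∣ 3 ^ 4 * (5 ^ 1 * (7 ^ 2 * 31 ^ 1)) :=
    ((hc.pow_right 15).dvd_of_dvd_mul_left hd).trans (by norm_num)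
  have hp' : p = 3 ∨ p = 5 ∨ p = 7 ∨ p = 31 := by
    have h1 : p ∣ 3 ^ 4 * (5 ^ 1 * (7 ^ 2 * 31 ^ 1)) := (dvd_pow_self p hk.ne').trans hd'
    rcases hp.dvd_mul.1 h1 with h | h
    · exact .inl ((Nat.prime_dvd_prime_iff_eq hp Nat.prime_three).1 (hp.dvd_of_dvd_pow h))
    rcases hp.dvd_mul.1 h with h | h
    · exact .inr (.inl ((Nat.prime_dvd_prime_iff_eq hp Nat.prime_five).1 (hp.dvd_of_dvd_pow h)))
    rcases hp.dvd_mul.1 h with h | h
    · exact .inr (.inr (.inl ((Nat.prime_dvd_prime_iff_eq hp (by norm_num)).1 (hp.dvd_of_dvd_pow h))))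
    · exact .inr (.inr (.inr ((Nat.prime_dvd_prime_iff_eq hp (by norm_num)).1 (hp.dvd_of_dvd_pow h))))
  have hN2 : N = p ^ k * ((p ^ k) ^ 2 - 1) / 2 := by
    rw [← hN]; exact (Nat.mul_div_cancel_left N two_pos).symm
  subst hN2
  rcases hp' with rfl | rfl | rfl | rfl
  · have := pow_le_of_dvd hp (b := 4) ((Nat.Coprime.pow_left k (by decide)).dvd_of_dvd_mul_right hd')
    interval_cases k <;> norm_num at *
  · have := pow_le_of_dvd hp (b := 1) ((Nat.Coprime.pow_left k (by decide)).dvd_of_dvd_mul_right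
      ((Nat.Coprime.pow_left k (by decide)).dvd_of_dvd_mul_left hd'))
    interval_cases k <;> norm_num at *
  · have := pow_le_of_dvd hp (b := 2) ((Nat.Coprime.pow_left k (by decide)).dvd_of_dvd_mul_right
      ((Nat.Coprime.pow_left k (by decide)).dvd_of_dvd_mul_left
        ((Nat.Coprime.pow_left k (by decide)).dvd_of_dvd_mul_left hd')))
    interval_cases k <;> norm_num at *
  · have := pow_le_of_dvd hp (b := 1) ((Nat.Coprime.pow_left k (by decide)).dvd_of_dvd_mul_left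
      ((Nat.Coprime.pow_left k (by decide)).dvd_of_dvd_mul_left
        ((Nat.Coprime.pow_left k (by decide)).dvd_of_dvd_mul_left hd')))
    interval_cases k <;> norm_num at *

/-- A candidate image pair of an automorphism of the dihedral group of order eight. -/
def dihIter (a b : DihedralGroup 4) : DihedralGroup 4 → DihedralGroup 4
  | .r i => a ^ i.val
  | .sr i => b * a ^ i.val

theorem dihIter_four : ∀ a b : DihedralGroup 4, (∀ x y, dihIter a b (x * y) = dihIter a b x * dihIter a b y) →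
    (∀ x, dihIter a b x = 1 → x = 1) →
    ∀ x, dihIter a b (dihIter a b (dihIter a b (dihIter a b x))) = x := by decide +kernel

theorem dih_aut_four (ψ : MulAut (DihedralGroup 4)) : ψ ^ 4 = 1 := by
  have he : ∀ x, ψ x = dihIter (ψ (.r 1)) (ψ (.sr 0)) x := by
    have hr : ∀ i : ZMod 4, (DihedralGroup.r i : DihedralGroup 4) = .r 1 ^ i.val := by decide
    have hs : ∀ i : ZMod 4, (DihedralGroup.sr i : DihedralGroup 4) = .sr 0 * .r 1 ^ i.val := by decide
    rintro (i | i)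
    · conv_lhs => rw [hr i, map_pow]
      rfl
    · conv_lhs => rw [hs i, map_mul, map_pow]
      rfl
  ext x
  have := dihIter_four (ψ (.r 1)) (ψ (.sr 0)) (fun x y => by rw [← he, ← he, ← he, map_mul])
    (fun x hx => by rw [← he] at hx; exact (MulEquiv.map_eq_one_iff ψ).1 hx) x
  simp only [← he] at this
  exact this

variable (h : Loc X)
include h

/-- A Sylow 2-subgroup is its own normalizer. -/
theorem Loc.normalizer_sylow (P : Sylow 2 X) :
    normalizer ((P : Subgroup X) : Set X) = (P : Subgroup X) := by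
  haveI : Fact (Nat.Prime 2) := ⟨Nat.prime_two⟩
  obtain ⟨P₀, ⟨e₀⟩⟩ := h.sylow
  let e : (P : Subgroup X) ≃* DihedralGroup 4 := (Sylow.equiv P P₀).trans e₀
  have hcen : ∀ y ∈ normalizer ((P : Subgroup X) : Set X), ∀ n : ℕ, Odd n → y ^ n = 1 → y = 1 := by
    intro y hy n hn hyn
    let ψ : MulAut (DihedralGroup 4) :=
      MulAut.congr e ((P : Subgroup X).normalizerMonoidHom ⟨y, hy⟩)
    have h4 : ((P : Subgroup X).normalizerMonoidHom ⟨y, hy⟩) ^ 4 = 1 := by
      have := dih_aut_four ψ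
      rw [← map_pow, ← map_one (MulAut.congr e)] at this
      exact (MulAut.congr e).injective this
    have hn' : ((P : Subgroup X).normalizerMonoidHom ⟨y, hy⟩) ^ n = 1 := by
      rw [← map_pow, show (⟨y, hy⟩ : normalizer ((P : Subgroup X) : Set X)) ^ n = 1 from Subtype.ext hyn, map_one]
    have h1 : ((P : Subgroup X).normalizerMonoidHom ⟨y, hy⟩) = 1 := by
      have := pow_gcd_eq_one.2 ⟨h4, hn'⟩
      rwa [show Nat.gcd 4 n = 1 from (Nat.coprime_two_left.2 hn).pow_left 2, pow_one] at this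
    have hc : ∀ p ∈ (P : Subgroup X), y * p = p * y := fun p hp => by
      have := congrArg Subtype.val (DFunLike.congr_fun h1 (⟨p, hp⟩ : (P : Subgroup X)))
      exact mul_inv_eq_iff_eq_mul.1 this
    have hi : Function.Injective (fun x => ((e.symm x : (P : Subgroup X)) : X)) :=
      Subtype.val_injective.comp e.symm.injective
    have hm : ∀ x y, ((e.symm x : (P : Subgroup X)) : X) * (e.symm y : (P : Subgroup X)) =
        (e.symm (x * y) : (P : Subgroup X)) := fun x y => by rw [map_mul, Subgroup.coe_mul]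
    have h0 : ((e.symm 1 : (P : Subgroup X)) : X) = 1 := by rw [map_one, Subgroup.coe_one]
    refine h.four_trivial (t := (e.symm (.r 2) : (P : Subgroup X))) (u := (e.symm (.sr 0) : (P : Subgroup X)))
      (fun he => absurd (hi (he.trans h0.symm)) (by decide)) (fun he => absurd (hi (he.trans h0.symm)) (by decide))
      (fun he => absurd (hi he) (by decide)) ?_ ?_ ?_ hn hyn (hc _ (SetLike.coe_mem _)) (hc _ (SetLike.coe_mem _))
    · rw [hm, show (DihedralGroup.r 2 : DihedralGroup 4) * .r 2 = 1 by decide, h0]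
    · rw [hm, show (DihedralGroup.sr 0 : DihedralGroup 4) * .sr 0 = 1 by decide, h0]
    · rw [hm, hm, show (DihedralGroup.r 2 : DihedralGroup 4) * .sr 0 = .sr 0 * .r 2 by decide]
  refine P.3 ?_ le_normalizer
  rintro ⟨g, hg⟩
  obtain ⟨j, m, hm, hjm⟩ := Nat.exists_eq_two_pow_mul_odd (orderOf_pos g).ne'
  refine ⟨j, Subtype.ext ?_⟩
  rw [SubgroupClass.coe_pow, Subgroup.coe_one]
  exact hcen _ (pow_mem hg _) m hm (by rw [← pow_mul, ← hjm, pow_orderOf_eq_one])

/-- A normal subgroup of order divisible by eight is everything. -/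
theorem Loc.eq_top_of_normal (L : Subgroup X) [L.Normal] (h8 : 8 ∣ Nat.card L) : L = ⊤ := by
  haveI : Fact (Nat.Prime 2) := ⟨Nat.prime_two⟩
  obtain ⟨K, hK⟩ := Sylow.exists_subgroup_card_pow_prime (G := L) 2 (n := 3) h8
  obtain ⟨Q, hQ⟩ := ((IsPGroup.of_card (p := 2) (n := 3) hK).map L.subtype).exists_le_sylow
  have hQL : (Q : Subgroup X) ≤ L := by
    rw [← eq_of_le_of_card_ge hQ (by
      rw [← Nat.card_congr (K.equivMapOfInjective L.subtype L.subtype_injective).toEquiv, hK, h.card_sylow Q]; norm_num)]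
    exact map_subtype_le K
  have := Sylow.normalizer_sup_eq_top (Q.subtype hQL)
  have hmap : ((Q.subtype hQL : Sylow 2 L) : Subgroup L).map L.subtype = (Q : Subgroup X) := by
    rw [Sylow.coe_subtype, subgroupOf_map_subtype, inf_eq_left.2 hQL]
  rw [hmap, h.normalizer_sylow Q, sup_eq_right.2 hQL] at this
  exact this

omit h in
theorem dih_facts : (∀ a b : DihedralGroup 4, (∀ c, c * a = a * c) → a ≠ 1 → b * b = 1 →
      ∀ c, c * b * c⁻¹ = b ∨ c * b * c⁻¹ = b * a) ∧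
    (∀ a b : DihedralGroup 4, (∀ c, c * a = a * c) → (∀ c, c * b = b * c) → a ≠ 1 → b ≠ 1 → a = b) ∧
    (∀ a : DihedralGroup 4, (∀ c, c * a = a * c) → a ≠ 1 → a = .r 2) ∧
    (∀ i : ZMod 4, (DihedralGroup.r i : DihedralGroup 4) * .r i = 1 → i ≠ 0 → i = 2) := by
  refine ⟨?_, ?_, ?_, ?_⟩ <;> decide +kernel

/-- In a simple automizer, a noncentral involution of a Sylow subgroup gives an element of order
three permuting the four group it spans with the central involution. -/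
theorem Loc.exists_three [IsSimpleGroup X] (h168 : Nat.card X = 168) (P : Sylow 2 X) {t z : X}
    (htP : t ∈ (P : Subgroup X)) (hzP : z ∈ (P : Subgroup X))
    (hzc : ∀ p ∈ (P : Subgroup X), p * z = z * p) (htn : ∃ p ∈ (P : Subgroup X), p * t ≠ t * p)
    (ht2 : t * t = 1) (hz2 : z * z = 1) (hz1 : z ≠ 1) :
    ∃ x : X, x ^ 3 = 1 ∧ x * t ≠ t * x ∧ t * (x * t * x⁻¹) = x * t * x⁻¹ * t ∧
      x * (x * t * x⁻¹) * x⁻¹ = t * (x * t * x⁻¹) ∧ (x * t * x⁻¹ = z ∨ x * t * x⁻¹ = t * z) := by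
  classical
  haveI : Fact (Nat.Prime 2) := ⟨Nat.prime_two⟩
  obtain ⟨f1, f2, f3, f4⟩ := dih_facts
  obtain ⟨P₀, ⟨e₀⟩⟩ := h.sylow
  have hiso : ∀ Q : Sylow 2 X, Nonempty ((Q : Subgroup X) ≃* DihedralGroup 4) :=
    fun Q => ⟨(Sylow.equiv Q P₀).trans e₀⟩
  have ht1 : t ≠ 1 := fun e1 => by obtain ⟨p, -, hp⟩ := htn; simp [e1] at hp
  have htz : t ≠ z := fun e1 => by obtain ⟨p, hpP, hp⟩ := htn; exact hp (by rw [e1, hzc p hpP])
  have hct : t * z = z * t := hzc t htP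
  -- the action of a Sylow subgroup on such a four group
  have hact : ∀ (Q : Sylow 2 X) (a b : X), a ∈ (Q : Subgroup X) → b ∈ (Q : Subgroup X) →
      (∀ q ∈ (Q : Subgroup X), q * a = a * q) → a ≠ 1 → b * b = 1 →
      ∀ q ∈ (Q : Subgroup X), q * b * q⁻¹ = b ∨ q * b * q⁻¹ = b * a := by
    intro Q a b ha hb hac ha1 hb2 q hq
    obtain ⟨e⟩ := hiso Q
    have h1 := f1 (e ⟨a, ha⟩) (e ⟨b, hb⟩) (fun c => by
        obtain ⟨c, rfl⟩ := e.surjective c
        rw [← map_mul, ← map_mul]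
        exact congrArg e (Subtype.ext (hac c c.2)))
      (fun e1 => ha1 (congrArg Subtype.val ((MulEquiv.map_eq_one_iff e).1 e1)))
      (by rw [← map_mul, ← map_one e]; exact congrArg e (Subtype.ext hb2)) (e ⟨q, hq⟩)
    rw [← map_inv, ← map_mul, ← map_mul, ← map_mul] at h1
    exact h1.imp (fun e1 => congrArg Subtype.val (e.injective e1)) (fun e1 => congrArg Subtype.val (e.injective e1))
  obtain ⟨p, hpP, hpt⟩ := htn
  have hp : p * t * p⁻¹ = t * z :=
    (hact P z t hzP htP hzc hz1 ht2 p hpP).resolve_left fun e1 => hpt (mul_inv_eq_iff_eq_mul.1 e1)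
  -- `t` is conjugate to `z`
  obtain ⟨e⟩ := hiso P
  let M : Subgroup X := (zpowers (e.symm (.r 1))).map (P : Subgroup X).subtype
  have hM4 : Nat.card M = 4 := by
    rw [← Nat.card_congr ((zpowers (e.symm (.r 1))).equivMapOfInjective _ (P : Subgroup X).subtype_injective).toEquiv,
      Nat.card_zpowers, MulEquiv.orderOf_eq, DihedralGroup.orderOf_r_one]
  have hMP : M ≤ (P : Subgroup X) := map_subtype_le _
  have hrel : M.relIndex (P : Subgroup X) = 2 := by
    have h2 := Subgroup.card_mul_index (M.subgroupOf (P : Subgroup X))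
    rw [Nat.card_congr (subgroupOfEquivOfLe hMP).toEquiv, hM4, h.card_sylow P] at h2
    rw [Subgroup.relIndex]; omega
  have hno : ∀ H : Subgroup X, H.index ≠ 2 := fun H hH => by
    haveI := Subgroup.normal_of_index_eq_two hH
    rcases Subgroup.Normal.eq_bot_or_eq_top (H := H) inferInstance with e1 | e1
    · rw [e1, index_bot, h168] at hH; norm_num at hH
    · rw [e1, index_top] at hH; norm_num at hH
  obtain ⟨g, hg⟩ := Small.thompson_transfer_sylow hno P M hMP hrel (u := t)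
    (orderOf_eq_prime (by rw [pow_two, ht2]) ht1)
  have hgz : g⁻¹ * t * g = z := by
    obtain ⟨k, hk, hke⟩ := hg
    obtain ⟨i, hi⟩ := mem_zpowers_iff.1 hk
    rw [← map_zpow, DihedralGroup.r_one_zpow] at hi
    have hk2 : e k * e k = 1 := by
      rw [← map_mul, ← map_one e]
      refine congrArg e (Subtype.ext ?_)
      show (k : X) * k = 1
      rw [show (k : X) = g⁻¹ * t * g from hke]
      rw [show g⁻¹ * t * g * (g⁻¹ * t * g) = g⁻¹ * (t * t) * g by group, ht2, mul_one, inv_mul_cancel]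
    have hk1 : (i : ZMod 4) ≠ 0 := fun e1 => ht1 (by
      rw [← hi, e1, DihedralGroup.r_zero, map_one, Subgroup.coe_subtype, Subgroup.coe_one] at hke
      have : t = g * 1 * g⁻¹ := by rw [hke]; group
      rw [this, mul_one, mul_inv_cancel])
    rw [← hi, MulEquiv.apply_symm_apply] at hk2
    have hi2 := f4 _ hk2 hk1
    have hz := f3 (e ⟨z, hzP⟩) (fun c => by
      obtain ⟨c, rfl⟩ := e.surjective c
      rw [← map_mul, ← map_mul]
      exact congrArg e (Subtype.ext (hzc c c.2)))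
      (fun e1 => hz1 (congrArg Subtype.val ((MulEquiv.map_eq_one_iff e).1 e1)))
    rw [← hke, ← hi, hi2, ← hz, MulEquiv.symm_apply_apply, Subgroup.coe_subtype]
  -- a Sylow subgroup with `t` central containing `z`
  set C := centralizer ({t} : Set X)
  let P' : Sylow 2 X := g • P
  have hP'C : (P' : Subgroup X) ≤ C := by
    rintro _ ⟨w, hw, rfl⟩
    refine mem_centralizer_singleton_iff.2 ?_
    show g * w * g⁻¹ * t = t * (g * w * g⁻¹)
    calc g * w * g⁻¹ * t = g * (w * (g⁻¹ * t * g)) * g⁻¹ := by group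
      _ = g * ((g⁻¹ * t * g) * w) * g⁻¹ := by rw [hgz, hzc w hw]
      _ = _ := by group
  have htC : t ∈ C := mem_centralizer_singleton_iff.2 rfl
  have hzC : z ∈ C := mem_centralizer_singleton_iff.2 hct.symm
  obtain ⟨R, hR⟩ := (show IsPGroup 2 (closure ({t, z} : Set X) |>.subgroupOf C) from
    ((P.isPGroup'.to_le ((closure_le _).2 (Set.insert_subset htP (Set.singleton_subset_iff.2 hzP)))).comap_of_injective
      C.subtype C.subtype_injective)).exists_le_sylow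
  obtain ⟨c, hc⟩ := MulAction.exists_smul_eq C (P'.subtype hP'C) R
  let Q : Sylow 2 X := (c : X) • P'
  have hQ : ∀ w ∈ closure ({t, z} : Set X), w ∈ (Q : Subgroup X) := by
    intro w hw
    have hwC : w ∈ C := (closure_le C).2 (Set.insert_subset htC (Set.singleton_subset_iff.2 hzC)) hw
    have hwR : (⟨w, hwC⟩ : C) ∈ (R : Subgroup C) := hR (mem_subgroupOf.2 hw)
    rw [← hc] at hwR
    obtain ⟨v, hv, hve⟩ := hwR
    exact ⟨(v : X), hv, congrArg Subtype.val hve⟩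
  have hQC : ∀ q ∈ (Q : Subgroup X), q * t = t * q := by
    rintro _ ⟨w, hw, rfl⟩
    exact mem_centralizer_singleton_iff.1 (mul_mem (mul_mem c.2 (hP'C hw)) (inv_mem c.2))
  have htQ := hQ t (subset_closure (Set.mem_insert _ _))
  have hzQ := hQ z (subset_closure (Set.mem_insert_of_mem _ rfl))
  obtain ⟨q, hqQ, hqz⟩ : ∃ q ∈ (Q : Subgroup X), q * z ≠ z * q := by
    by_contra hall
    push Not at hall
    obtain ⟨e'⟩ := hiso Q
    have := f2 (e' ⟨t, htQ⟩) (e' ⟨z, hzQ⟩) (fun c => by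
        obtain ⟨c, rfl⟩ := e'.surjective c
        rw [← map_mul, ← map_mul]; exact congrArg e' (Subtype.ext (hQC c c.2)))
      (fun c => by
        obtain ⟨c, rfl⟩ := e'.surjective c
        rw [← map_mul, ← map_mul]; exact congrArg e' (Subtype.ext (hall c c.2)))
      (fun e1 => ht1 (congrArg Subtype.val ((MulEquiv.map_eq_one_iff e').1 e1)))
      (fun e1 => hz1 (congrArg Subtype.val ((MulEquiv.map_eq_one_iff e').1 e1)))
    exact htz (congrArg Subtype.val (e'.injective this))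
  have hq : q * z * q⁻¹ = z * t :=
    (hact Q t z htQ hzQ hQC ht1 hz2 q hqQ).resolve_left fun e1 => hqz (mul_inv_eq_iff_eq_mul.1 e1)
  -- the three cycle and its part of order three
  have hqt : q * t * q⁻¹ = t := mul_inv_eq_iff_eq_mul.2 (hQC q hqQ)
  set x₀ := q * p with hx₀
  have c1 : x₀ * t * x₀⁻¹ = z := by
    rw [hx₀, show q * p * t * (q * p)⁻¹ = q * (p * t * p⁻¹) * q⁻¹ by group, hp,
      show q * (t * z) * q⁻¹ = q * t * q⁻¹ * (q * z * q⁻¹) by group, hqt, hq, hct.symm, ← mul_assoc,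
      ht2, one_mul]
  have c2 : x₀ * z * x₀⁻¹ = t * z := by
    rw [hx₀, show q * p * z * (q * p)⁻¹ = q * (p * z * p⁻¹) * q⁻¹ by group,
      mul_inv_eq_iff_eq_mul.2 (hzc p hpP), hq, hct]
  have c3 : x₀ * (t * z) * x₀⁻¹ = t := by
    rw [show x₀ * (t * z) * x₀⁻¹ = x₀ * t * x₀⁻¹ * (x₀ * z * x₀⁻¹) by group, c1, c2, hct, ← mul_assoc,
      hz2, one_mul]
  have k3 : ∀ w : X, x₀ ^ 3 * w * (x₀ ^ 3)⁻¹ = x₀ * (x₀ * (x₀ * w * x₀⁻¹) * x₀⁻¹) * x₀⁻¹ := fun w => by
    rw [pow_succ, pow_two]; group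
  have k3t : x₀ ^ 3 * t * (x₀ ^ 3)⁻¹ = t := by rw [k3, c1, c2, c3]
  have k3z : x₀ ^ 3 * z * (x₀ ^ 3)⁻¹ = z := by rw [k3, c2, c3, c1]
  obtain ⟨j, m, hm, hjm⟩ := Nat.exists_eq_two_pow_mul_odd (orderOf_pos (x₀ ^ 3)).ne'
  have hx3 : (x₀ ^ 2 ^ j) ^ 3 = 1 := by
    rw [← pow_mul, mul_comm, pow_mul]
    have cy : ∀ w : X, x₀ ^ 3 * w * (x₀ ^ 3)⁻¹ = w → (x₀ ^ 3) ^ 2 ^ j * w = w * (x₀ ^ 3) ^ 2 ^ j :=
      fun w hw => ((show Commute (x₀ ^ 3) w from mul_inv_eq_iff_eq_mul.1 hw).pow_left _).eq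
    exact h.four_trivial ht1 hz1 htz ht2 hz2 hct hm (by rw [← pow_mul, ← hjm, pow_orderOf_eq_one])
      (cy t k3t) (cy z k3z)
  obtain ⟨l, hl⟩ : ∃ l, 2 ^ j = 3 * l + 1 ∨ 2 ^ j = 3 * l + 2 := by
    refine ⟨2 ^ j / 3, ?_⟩
    have : 2 ^ j % 3 ≠ 0 := fun e1 => by
      have := Nat.prime_three.dvd_of_dvd_pow (Nat.dvd_of_mod_eq_zero e1); norm_num at this
    omega
  have kl : ∀ w : X, x₀ ^ 3 * w * (x₀ ^ 3)⁻¹ = w → x₀ ^ (3 * l) * w * (x₀ ^ (3 * l))⁻¹ = w := fun w hw =>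
    mul_inv_eq_iff_eq_mul.2 (by
      rw [pow_mul]; exact ((show Commute (x₀ ^ 3) w from mul_inv_eq_iff_eq_mul.1 hw).pow_left l).eq)
  have k3tz : x₀ ^ 3 * (t * z) * (x₀ ^ 3)⁻¹ = t * z := by rw [k3, c3, c1, c2]
  have hne : ∀ x : X, x * t * x⁻¹ ≠ t → x * t ≠ t * x := fun x hx e1 => hx (mul_inv_eq_iff_eq_mul.2 e1)
  have htz' : t * z ≠ t := fun e1 => hz1 (mul_eq_left.1 e1)
  refine ⟨x₀ ^ 2 ^ j, hx3, ?_⟩
  rcases hl with hl | hl
  · have a1 : x₀ ^ 2 ^ j * t * (x₀ ^ 2 ^ j)⁻¹ = z := by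
      rw [hl, pow_succ, show x₀ ^ (3 * l) * x₀ * t * (x₀ ^ (3 * l) * x₀)⁻¹ =
        x₀ ^ (3 * l) * (x₀ * t * x₀⁻¹) * (x₀ ^ (3 * l))⁻¹ by group, c1, kl z k3z]
    have a2 : x₀ ^ 2 ^ j * z * (x₀ ^ 2 ^ j)⁻¹ = t * z := by
      rw [hl, pow_succ, show x₀ ^ (3 * l) * x₀ * z * (x₀ ^ (3 * l) * x₀)⁻¹ =
        x₀ ^ (3 * l) * (x₀ * z * x₀⁻¹) * (x₀ ^ (3 * l))⁻¹ by group, c2, kl _ k3tz]
    refine ⟨hne _ (by rw [a1]; exact htz.symm), ?_, ?_, .inl a1⟩
    · rw [a1, hct]
    · rw [a1, a2]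
  · have a1 : x₀ ^ 2 ^ j * t * (x₀ ^ 2 ^ j)⁻¹ = t * z := by
      rw [hl, pow_add, pow_two, show x₀ ^ (3 * l) * (x₀ * x₀) * t * (x₀ ^ (3 * l) * (x₀ * x₀))⁻¹ =
        x₀ ^ (3 * l) * (x₀ * (x₀ * t * x₀⁻¹) * x₀⁻¹) * (x₀ ^ (3 * l))⁻¹ by group, c1, c2, kl _ k3tz]
    have a2 : x₀ ^ 2 ^ j * (t * z) * (x₀ ^ 2 ^ j)⁻¹ = z := by
      rw [hl, pow_add, pow_two, show x₀ ^ (3 * l) * (x₀ * x₀) * (t * z) * (x₀ ^ (3 * l) * (x₀ * x₀))⁻¹ =
        x₀ ^ (3 * l) * (x₀ * (x₀ * (t * z) * x₀⁻¹) * x₀⁻¹) * (x₀ ^ (3 * l))⁻¹ by group, c3, c1, kl z k3z]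
    refine ⟨hne _ (by rw [a1]; exact htz'), ?_, ?_, .inr a1⟩
    · rw [a1, ← mul_assoc, ht2, one_mul, mul_assoc, ← hct, ← mul_assoc, ht2, one_mul]
    · rw [a1, a2, ← mul_assoc, ht2, one_mul]

end CfsgLib.MModel24
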