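import Cfsg.Agent.MModel24.Model
import Cfsg.Agent.MModel24.ChecksModel
import Cfsg.Agent.S3171

/-!
# Construction of the model
-/

set_option autoImplicit false
set_option linter.style.haveILetI false

namespace CfsgLib.MModel24

open Subgroup
open CfsgLib.Inv53.M24Data (mulN)

variable {G : Type*} [Group G] [Finite G]

theorem exists_model (S : Sylow 2 G) (P : Sylow 2 ↥Cfsg.M24)
    (hS : Nonempty (↥(S : Subgroup G) ≃* (↥(P : Subgroup ↥Cfsg.M24) ⧸ Subgroup.center ↥(P : Subgroup ↥Cfsg.M24))))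
    (A : Subgroup G) (hA : A ≤ (S : Subgroup G)) (hA64 : Nat.card ↥A = 64)
    (huniq : ∀ B : Subgroup G, B ≤ (S : Subgroup G) → IsMulCommutative ↥B → Nat.card ↥B = 64 → B = A) :
    Nonempty (Model S A) := by
  classical
  obtain ⟨e⟩ := hS
  obtain ⟨F₀, hinj, hsurj, h0, hm, hsplit, -⟩ := Cfsg.Agent.S3171.exists_quotient_model P
  let F : ℕ → G := fun n => (e.symm (F₀ n) : (S : Subgroup G))
  have hmem : ∀ n < 512, F n ∈ (S : Subgroup G) := fun n _ => SetLike.coe_mem _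
  have hFinj : ∀ a < 512, ∀ b < 512, F a = F b → a = b := fun a ha b hb h =>
    hinj a b ha hb (e.symm.injective (Subtype.ext h))
  have hFsurj : ∀ x ∈ (S : Subgroup G), ∃ n < 512, F n = x := fun x hx => by
    obtain ⟨n, hn, h⟩ := hsurj (e ⟨x, hx⟩)
    exact ⟨n, hn, by simp only [F, h, MulEquiv.symm_apply_apply]⟩
  have hFm : ∀ a < 512, ∀ b < 512, F a * F b = F (mulN a b % 512) := fun a ha b hb => by
    simp only [F, ← Subgroup.coe_mul, ← map_mul, hm a b ha hb]
  have hFs : ∀ d < 8, ∀ v < 64, F (d + 8 * v) = F d * F (8 * v) := fun d hd v hv => by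
    simp only [F, ← Subgroup.coe_mul, ← map_mul]
    rw [hsplit (d + 8 * v) (by omega), show (d + 8 * v) % 8 = d by omega, Nat.add_sub_cancel_left]
  have hdd : ∀ d < 8, ∀ d' < 8, F d * F d' = F (mulD d d') := fun d hd d' hd' => by
    rw [hFm d (by omega) d' (by omega), mulD_eq d hd d' hd']
  have hvv : ∀ v < 64, ∀ w < 64, F (8 * v) * F (8 * w) = F (8 * (v ^^^ w)) := fun v hv w hw => by
    rw [hFm (8 * v) (by omega) (8 * w) (by omega), vec_mul v hv w hw]
  have hvd : ∀ d < 8, ∀ v < 64, F (8 * v) * F d = F d * F (8 * act d v) := fun d hd v hv => by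
    rw [hFm (8 * v) (by omega) d (by omega), vec_move d hd v hv,
      hFm d (by omega) (8 * act d v) (by have := act_lt hd hv; omega)]
  have hmul : ∀ a < 512, ∀ b < 512, F a * F b = F (mul a b) := fun a ha b hb => by
    have hd : a % 8 < 8 := by omega
    have he : b % 8 < 8 := by omega
    have hv : a / 8 < 64 := by omega
    have hw : b / 8 < 64 := by omega
    have hact := act_lt he hv
    conv_lhs => rw [← Nat.mod_add_div a 8, ← Nat.mod_add_div b 8, hFs _ hd _ hv, hFs _ he _ hw]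
    rw [mul_assoc, ← mul_assoc (F (8 * (a / 8))), hvd _ he _ hv, mul_assoc (F (b % 8)), hvv _ hact _ hw,
      ← mul_assoc, hdd _ hd _ he, ← hFs _ (mulD_lt hd he) _ (xor_lt hact hw)]
    rfl
  -- the elements with trivial image in the dihedral group
  have hF0 : F 0 = 1 := by simp [F, h0]
  have hcl : ∀ x ∈ ((Set.range fun v : Fin 64 => F (8 * (v : ℕ))) : Set G),
      ∀ y ∈ (Set.range fun v : Fin 64 => F (8 * (v : ℕ))), x * y ∈ Set.range fun v : Fin 64 => F (8 * (v : ℕ)) := by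
    rintro _ ⟨v, rfl⟩ _ ⟨w, rfl⟩
    exact ⟨⟨(v : ℕ) ^^^ w, xor_lt v.2 w.2⟩, (hvv _ v.2 _ w.2).symm⟩
  let B : Subgroup G :=
    { carrier := Set.range fun v : Fin 64 => F (8 * (v : ℕ))
      one_mem' := ⟨0, hF0⟩
      mul_mem' := fun hx hy => hcl _ hx _ hy
      inv_mem' := by
        rintro _ ⟨v, rfl⟩
        refine ⟨v, (inv_eq_of_mul_eq_one_right ?_).symm⟩
        rw [hvv _ v.2 _ v.2, Nat.xor_self]
        exact hF0 }
  have hBS : B ≤ (S : Subgroup G) := by
    rintro _ ⟨v, rfl⟩; exact hmem _ (by omega)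
  have hBc : ∀ x ∈ B, ∀ y ∈ B, x * y = y * x := by
    rintro _ ⟨v, rfl⟩ _ ⟨w, rfl⟩
    rw [hvv _ v.2 _ w.2, hvv _ w.2 _ v.2, Nat.xor_comm]
  have hB64 : Nat.card B = 64 := by
    rw [← Nat.card_fin 64]
    refine (Nat.card_eq_of_bijective (fun v : Fin 64 => (⟨F (8 * (v : ℕ)), v, rfl⟩ : B)) ⟨fun v w h => ?_, ?_⟩).symm
    · have h' : F (8 * (v : ℕ)) = F (8 * (w : ℕ)) := congrArg (fun b : B => (b : G)) h
      have := hFinj _ (by omega) _ (by omega) h'
      exact Fin.ext (by omega)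
    · rintro ⟨_, v, rfl⟩; exact ⟨v, rfl⟩
  have hBA : B = A := huniq B hBS ⟨⟨fun x y => Subtype.ext (hBc x x.2 y y.2)⟩⟩ hB64
  have hAiff : ∀ n < 512, (F n ∈ A ↔ n % 8 = 0) := by
    intro n hn
    rw [← hBA]
    constructor
    · rintro ⟨v, hv⟩
      have := hFinj _ (by omega) _ hn hv
      omega
    · intro h
      exact ⟨⟨n / 8, by omega⟩, congrArg F (show 8 * (n / 8) = n by omega)⟩
  refine ⟨{ F := F, mem := hmem, inj := hFinj, surj := hFsurj, hmul := hmul, hA := hAiff, le := hA,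
            comm := hBA ▸ hBc, sq := ?_, card := hA64, uniq := ?_, self := ?_ }⟩
  · rw [← hBA]
    rintro _ ⟨v, rfl⟩
    rw [hvv _ v.2 _ v.2, Nat.xor_self]
    exact hF0
  · exact fun C hC hc h64 => huniq C hC ⟨⟨fun x y => Subtype.ext (hc x x.2 y y.2)⟩⟩ h64
  · intro t ht hcomm
    obtain ⟨n, hn, rfl⟩ := hFsurj t ht
    refine (hAiff n hn).2 ?_
    by_contra h8
    have := List.all_eq_true.1 self_ok n (List.mem_range.2 hn)
    rw [Bool.or_eq_true, Nat.beq_eq] at this
    obtain ⟨v, hv, hne⟩ := List.any_eq_true.1 (this.resolve_left h8)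
    have hv5 : v < 512 ∧ v % 8 = 0 := by fin_cases hv <;> norm_num
    have e := hcomm _ ((hAiff v hv5.1).2 hv5.2)
    rw [hmul n hn v hv5.1, hmul v hv5.1 n hn] at e
    have := hFinj _ (mul_lt hn hv5.1) _ (mul_lt hv5.1 hn) e
    rw [this] at hne
    simp at hne

end CfsgLib.MModel24
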