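import Cfsg.Agent.MModel24.Arith

/-!
# Kernel checks: outer involutions never meet the abelian subgroup
-/

set_option autoImplicit false
set_option maxRecDepth 100000
set_option maxHeartbeats 0

namespace CfsgLib.MModel24

theorem dead_4 : dead 3 [0, 4] = true := by decide +kernel

theorem dead_20 : dead 3 [0, 20] = true := by decide +kernel

theorem dead_132 : dead 3 [0, 132] = true := by decide +kernel

theorem dead_148 : dead 3 [0, 148] = true := by decide +kernel

end CfsgLib.MModel24
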