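import Cfsg.Agent.MModel24.Arith

/-!
# Kernel checks: outer involutions never meet the abelian subgroup
-/

set_option autoImplicit false
set_option maxRecDepth 100000

namespace CfsgLib.MModel24

theorem dead_70 : dead 3 [0, 70] = true := by
  set_option maxHeartbeats 0 in decide +kernel

theorem dead_102 : dead 3 [0, 102] = true := by
  set_option maxHeartbeats 0 in decide +kernel

end CfsgLib.MModel24
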