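import Cfsg.Agent.MModel24.Arith

/-!
# Classes of outer involutions of the model
-/

set_option autoImplicit false
set_option maxRecDepth 100000

namespace CfsgLib.MModel24

/-- Class representatives of the outer involutions. -/
def reps : List Nat := [1, 2, 4, 9, 18, 20, 70, 102, 129, 132, 137, 148]

theorem reps_ok : ((List.range 512).filter fun n => !(n % 8 == 0) && mul n n == 0).all
    (fun n => reps.any fun r => (List.range 512).any fun g => conj g r == n) = true := by
  set_option maxHeartbeats 0 in decide +kernel

end CfsgLib.MModel24
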