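import Cfsg.Agent.MModel24.Fusion
import Cfsg.Agent.MModel24.ChecksReps
import Cfsg.Agent.MModel24.ChecksDeadA
import Cfsg.Agent.MModel24.ChecksDeadB
import Cfsg.Agent.MModel24.ChecksDeadC
import Cfsg.Agent.MModel24.ChecksDeadD
import Cfsg.Agent.MModel24.ChecksDeadE

/-!
# Strong closure of the abelian subgroup
-/

set_option autoImplicit false
set_option linter.style.haveILetI false
set_option linter.unusedSectionVars false

namespace CfsgLib.MModel24

open Subgroup

variable {G : Type*} [Group G] [Finite G] {S : Sylow 2 G} {A : Subgroup G}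

theorem dead_reps {r : ℕ} (hr : r ∈ reps) : dead 3 [0, r] = true := by
  fin_cases hr
  exacts [dead_1, dead_2, dead_4, dead_9, dead_18, dead_20, dead_70, dead_102, dead_129, dead_132,
    dead_137, dead_148]

theorem reps_lt {r : ℕ} (hr : r ∈ reps) : r < 512 := by fin_cases hr <;> norm_num

variable (m : Model S A)
include m

theorem Model.closed : CfsgLib.TameClosed.Closed S A := by
  refine ⟨m.le, m.comm, m.sq, m.self, fun a ha g hg => ?_⟩
  by_contra hn
  obtain ⟨n, hn5, e⟩ := m.surj _ hg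
  have hn8 : n % 8 ≠ 0 := fun h8 => hn (e ▸ (m.hA n hn5).2 h8)
  have hsq : mul n n = 0 := (m.sq_iff hn5).1 (by
    rw [e, show g * a * g⁻¹ * (g * a * g⁻¹) = g * (a * a) * g⁻¹ by group, m.sq a ha, mul_one, mul_inv_cancel])
  have h := List.all_eq_true.1 reps_ok n (List.mem_filter.2 ⟨List.mem_range.2 hn5, by simp [hn8, hsq]⟩)
  obtain ⟨r, hr, h⟩ := List.any_eq_true.1 h
  obtain ⟨c, hc, hcr⟩ := List.any_eq_true.1 h
  rw [List.mem_range] at hc
  rw [beq_iff_eq] at hcr
  have hr5 := reps_lt hr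
  set x := m.F r
  have hx : m.F c * x * (m.F c)⁻¹ = g * a * g⁻¹ := by rw [← m.map_conj hc hr5, hcr, e]
  have hx' : x = (m.F c)⁻¹ * g * a * ((m.F c)⁻¹ * g)⁻¹ := by
    rw [show (m.F c)⁻¹ * g * a * ((m.F c)⁻¹ * g)⁻¹ = (m.F c)⁻¹ * (g * a * g⁻¹) * m.F c by group, ← hx]
    group
  have hx2 : x * x = 1 := by
    rw [hx', show ∀ k : G, k * a * k⁻¹ * (k * a * k⁻¹) = k * (a * a) * k⁻¹ from fun k => by group, m.sq a ha,
      mul_one, mul_inv_cancel]
  have hxz : ∀ y ∈ zpowers x, y = 1 ∨ y = x := by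
    intro y hy
    obtain ⟨i, rfl⟩ := mem_zpowers_iff.1 hy
    rcases Int.even_or_odd i with ⟨j, rfl⟩ | ⟨j, rfl⟩
    · left; rw [zpow_add, ← (Commute.refl _).mul_zpow, hx2, one_zpow]
    · right; rw [zpow_add, two_mul, zpow_add, ← (Commute.refl _).mul_zpow, hx2, one_zpow, one_mul, zpow_one]
  have hr8 : r ≠ 0 := by rintro rfl; exact absurd hr (by decide)
  have hL : m.Lists [0, r] (zpowers x) := by
    refine ⟨fun y hy => ?_, zpowers_le.2 (m.mem r hr5), fun y hy => ⟨fun h => ?_, fun h => ?_⟩⟩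
    · simp at hy; rcases hy with rfl | rfl <;> omega
    · simp at h; rcases h with rfl | rfl
      · rw [m.map_zero]; exact one_mem _
      · exact mem_zpowers _
    · rcases hxz _ h with h' | h'
      · rw [m.inj y hy 0 (by norm_num) (h'.trans m.map_zero.symm)]; exact List.mem_cons_self
      · rw [m.inj y hy r hr5 h']; simp
  refine m.dead_sound 3 [0, r] (zpowers x) (dead_reps hr) hL
    (fun e' => hr8 (m.inj r hr5 0 (by norm_num) ?_)) ?_ ?_ ((m.F c)⁻¹ * g)⁻¹ ?_
  · rw [m.map_zero]; exact zpowers_eq_bot.1 e'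
  · intro u hu v hv
    rcases hxz u hu with rfl | rfl <;> rcases hxz v hv with rfl | rfl <;> simp
  · intro u hu
    rcases hxz u hu with rfl | rfl
    · exact one_mul 1
    · exact hx2
  · intro u hu
    rcases hxz u hu with rfl | rfl
    · rw [mul_one, mul_inv_cancel]; exact one_mem _
    · have e' : ((m.F c)⁻¹ * g)⁻¹ * x * ((m.F c)⁻¹ * g)⁻¹⁻¹ = a := by rw [hx']; group
      rw [e']; exact ha

end CfsgLib.MModel24
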