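import Cfsg.Agent.MModel24.Arith
import Cfsg.Agent.TameClosed.Basic

/-!
# Groups with a Sylow 2-subgroup realized by the model
-/

set_option autoImplicit false
set_option linter.style.haveILetI false
set_option linter.unusedSectionVars false

namespace CfsgLib.MModel24

open Subgroup
open scoped Pointwise

variable {G : Type*} [Group G] [Finite G]

theorem mulD_lt {x y : ℕ} (hx : x < 8) (hy : y < 8) : mulD x y < 8 := by
  revert y; revert x; decide +kernel

theorem act_lt {e v : ℕ} (he : e < 8) (hv : v < 64) : act e v < 64 := by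
  revert v; revert e; decide +kernel

theorem xor_lt {v w : ℕ} (hv : v < 64) (hw : w < 64) : v ^^^ w < 64 := by
  exact Nat.xor_lt_two_pow (n := 6) hv hw

theorem mul_lt {a b : ℕ} (ha : a < 512) (hb : b < 512) : mul a b < 512 := by
  have h1 := mulD_lt (x := a % 8) (y := b % 8) (Nat.mod_lt _ (by norm_num)) (Nat.mod_lt _ (by norm_num))
  have h2 := xor_lt (act_lt (e := b % 8) (v := a / 8) (Nat.mod_lt _ (by norm_num)) (by omega))
    (show b / 8 < 64 by omega)
  unfold mul
  show mulD (a % 8) (b % 8) + 8 * (act (b % 8) (a / 8) ^^^ (b / 8)) < 512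
  omega

theorem inv_lt {a : ℕ} (_ha : a < 512) : inv a < 512 :=
  Nat.lt_succ_of_le Nat.and_le_right

theorem conj_lt {g a : ℕ} (hg : g < 512) (ha : a < 512) : conj g a < 512 :=
  mul_lt (mul_lt hg ha) (inv_lt hg)

theorem mul_inv_self : ∀ a < 512, mul a (inv a) = 0 := by decide +kernel

/-- A Sylow subgroup with the multiplication of the model and the abelian subgroup. -/
structure Model (S : Sylow 2 G) (A : Subgroup G) where
  F : ℕ → G
  mem : ∀ n < 512, F n ∈ (S : Subgroup G)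
  inj : ∀ a < 512, ∀ b < 512, F a = F b → a = b
  surj : ∀ x ∈ (S : Subgroup G), ∃ n < 512, F n = x
  hmul : ∀ a < 512, ∀ b < 512, F a * F b = F (mul a b)
  hA : ∀ n < 512, (F n ∈ A ↔ n % 8 = 0)
  le : A ≤ (S : Subgroup G)
  comm : ∀ a ∈ A, ∀ b ∈ A, a * b = b * a
  sq : ∀ a ∈ A, a * a = 1
  card : Nat.card A = 64
  uniq : ∀ B : Subgroup G, B ≤ (S : Subgroup G) → (∀ a ∈ B, ∀ b ∈ B, a * b = b * a) →
    Nat.card B = 64 → B = A
  self : ∀ t ∈ (S : Subgroup G), (∀ a ∈ A, t * a = a * t) → t ∈ A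

variable {S : Sylow 2 G} {A : Subgroup G} (m : Model S A)
include m

theorem Model.map_zero : m.F 0 = 1 := by
  have := m.hmul 0 (by norm_num) 0 (by norm_num)
  rw [show mul 0 0 = 0 from rfl] at this
  exact mul_eq_left.1 this

theorem Model.map_inv {a : ℕ} (ha : a < 512) : m.F (inv a) = (m.F a)⁻¹ := by
  refine (inv_eq_of_mul_eq_one_right ?_).symm
  rw [m.hmul a ha _ (inv_lt ha), mul_inv_self a ha, m.map_zero]

theorem Model.map_conj {g a : ℕ} (hg : g < 512) (ha : a < 512) :
    m.F (conj g a) = m.F g * m.F a * (m.F g)⁻¹ := by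
  rw [← m.map_inv hg, m.hmul g hg a ha, m.hmul _ (mul_lt hg ha) _ (inv_lt hg)]
  rfl

theorem Model.comm_iff {a b : ℕ} (ha : a < 512) (hb : b < 512) :
    m.F a * m.F b = m.F b * m.F a ↔ mul a b = mul b a := by
  rw [m.hmul a ha b hb, m.hmul b hb a ha]
  exact ⟨m.inj _ (mul_lt ha hb) _ (mul_lt hb ha), fun e => by rw [e]⟩

theorem Model.sq_iff {a : ℕ} (ha : a < 512) : m.F a * m.F a = 1 ↔ mul a a = 0 := by
  rw [m.hmul a ha a ha]
  exact ⟨fun e => m.inj _ (mul_lt ha ha) 0 (by norm_num) (e.trans m.map_zero.symm),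
    fun e => by rw [e, m.map_zero]⟩

end CfsgLib.MModel24
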